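import Cfsg.Agent.Lib.Characters.Complete
import Cfsg.Agent.Lib.Characters.Kernel
import Cfsg.Agent.Lib.Characters.Linear
import Cfsg.Agent.Lib.Characters.Indicator
import Cfsg.Agent.Lib.Clifford.Basic
import Mathlib.LinearAlgebra.Matrix.Adjugate

/-!
# Generic tools for the character analysis with `χ(1) - χ(u) ∈ {4}` or `χ(u) = 0`

Multiplicities as natural numbers, and the two facts about a three-dimensional representation of
determinant one: `χ(g)² - χ(g²) = 2 conj χ(g)` and `⟨χ², conj χ⟩ ≠ 0`.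
-/

set_option autoImplicit false

namespace Cfsg.Agent.Lib.FourMinus

open Cfsg.Agent.Lib.Induced.Basic Cfsg.Agent.Lib.Characters
open Cfsg.Agent.Lib.Characters.Basic
open scoped ComplexConjugate Kronecker

universe u

variable {G : Type u} [Group G] [Fintype G] [Fintype (Cfsg.IrrCharacter G)]

/-- The multiplicity of an irreducible constituent, as a natural number. -/
noncomputable def mult (φ : G → ℂ) (χ : Cfsg.IrrCharacter G) : ℕ :=
  ⌊(Cfsg.classInner φ (χ : G → ℂ)).re⌋₊

omit [Fintype (Cfsg.IrrCharacter G)] in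
theorem mult_spec {φ : G → ℂ} (hφ : Cfsg.IsCharacter G φ) (χ : Cfsg.IrrCharacter G) :
    Cfsg.classInner φ (χ : G → ℂ) = (mult φ χ : ℂ) := by
  obtain ⟨k, hk⟩ := exists_classInner_nat hφ (isCharacter_irr χ)
  rw [mult, hk, Complex.natCast_re, Nat.floor_natCast]

theorem apply_eq_sum {φ : G → ℂ} (hφ : Cfsg.IsCharacter G φ) (g : G) :
    φ g = ∑ χ : Cfsg.IrrCharacter G, (mult φ χ : ℂ) * (χ : G → ℂ) g := by
  conv_lhs => rw [Complete.classFunction_eq_sum (isClassFunction_of_isCharacter hφ)]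
  rw [Finset.sum_apply]
  exact Finset.sum_congr rfl fun χ _ => by rw [Pi.smul_apply, smul_eq_mul, mult_spec hφ]

theorem inner_eq_sum {φ ψ : G → ℂ} (hφ : Cfsg.IsCharacter G φ) (hψ : Cfsg.IsCharacter G ψ) :
    Cfsg.classInner φ ψ = ((∑ χ, mult φ χ * mult ψ χ : ℕ) : ℂ) := by
  conv_lhs => rw [Complete.classFunction_eq_sum (isClassFunction_of_isCharacter hψ)]
  rw [classInner_sum_right, Nat.cast_sum]
  refine Finset.sum_congr rfl fun χ _ => ?_
  rw [classInner_smul_right, mult_spec hψ, mult_spec hφ, Complex.conj_natCast]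
  push_cast
  ring

/-- A character of norm two is the sum of two distinct irreducible characters. -/
theorem exists_two {φ : G → ℂ} (hφ : Cfsg.IsCharacter G φ) (h : Cfsg.classInner φ φ = 2) :
    ∃ a b : Cfsg.IrrCharacter G, a ≠ b ∧ φ = (a : G → ℂ) + (b : G → ℂ) ∧
      mult φ a = 1 ∧ mult φ b = 1 ∧ ∀ χ, χ ≠ a → χ ≠ b → mult φ χ = 0 := by
  classical
  rw [inner_eq_sum hφ hφ, show (2 : ℂ) = ((2 : ℕ) : ℂ) from rfl, Nat.cast_inj] at h
  have hle : ∀ χ, mult φ χ * mult φ χ ≤ 2 := fun χ =>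
    h ▸ Finset.single_le_sum (f := fun χ => mult φ χ * mult φ χ) (fun _ _ => Nat.zero_le _)
      (Finset.mem_univ χ)
  have h01 : ∀ χ, mult φ χ = 0 ∨ mult φ χ = 1 := by
    intro χ
    rcases Nat.lt_or_ge (mult φ χ) 2 with hlt | hge
    · omega
    · have := hle χ
      nlinarith
  set A := Finset.univ.filter fun χ : Cfsg.IrrCharacter G => mult φ χ = 1 with hA
  have hcard : A.card = 2 := by
    rw [← h, hA, Finset.card_filter]
    refine Finset.sum_congr rfl fun χ _ => ?_
    rcases h01 χ with e | e <;> simp [e]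
  obtain ⟨a, b, hab, hAb⟩ := Finset.card_eq_two.1 hcard
  have ha : mult φ a = 1 := (Finset.mem_filter.1 (show a ∈ A by simp [hAb])).2
  have hb : mult φ b = 1 := (Finset.mem_filter.1 (show b ∈ A by simp [hAb])).2
  have hz : ∀ χ, χ ≠ a → χ ≠ b → mult φ χ = 0 := fun χ h1 h2 =>
    (h01 χ).resolve_right fun e => by
      have : χ ∈ A := Finset.mem_filter.2 ⟨Finset.mem_univ _, e⟩
      rw [hAb] at this
      simp [h1, h2] at this
  refine ⟨a, b, hab, funext fun g => ?_, ha, hb, hz⟩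
  rw [apply_eq_sum hφ g, ← Finset.sum_subset (Finset.subset_univ ({a, b} : Finset _))]
  · rw [Finset.sum_pair hab, ha, hb]
    simp
  · intro χ _ hχ
    rw [Finset.mem_insert, Finset.mem_singleton, not_or] at hχ
    rw [hz χ hχ.1 hχ.2]
    simp

/-- Characters with a common constituent are not orthogonal. -/
theorem inner_ne_zero {φ ψ : G → ℂ} (hφ : Cfsg.IsCharacter G φ) (hψ : Cfsg.IsCharacter G ψ)
    {χ : Cfsg.IrrCharacter G} (h1 : mult φ χ ≠ 0) (h2 : mult ψ χ ≠ 0) :
    Cfsg.classInner φ ψ ≠ 0 := by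
  rw [inner_eq_sum hφ hψ]
  refine Nat.cast_ne_zero.2 fun h => ?_
  rw [Finset.sum_eq_zero_iff] at h
  exact mul_ne_zero h1 h2 (h χ (Finset.mem_univ _))

omit [Fintype G] [Fintype (Cfsg.IrrCharacter G)] in
/-- A three by three matrix: `tr² - tr(M²) = 2 tr(adj M)`. -/
theorem trace_sq_sub (M : Matrix (Fin 3) (Fin 3) ℂ) :
    M.trace * M.trace - (M * M).trace = 2 * M.adjugate.trace := by
  simp [Matrix.adjugate_fin_three, Matrix.trace_fin_three, Matrix.mul_apply, Fin.sum_univ_three]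
  ring

/-- The alternating tensor in three variables. -/
noncomputable def eps : (Fin 3 × Fin 3) × Fin 3 → ℂ := fun p =>
  (((p.1.2 : ℕ) : ℂ) - ((p.1.1 : ℕ) : ℂ)) * (((p.2 : ℕ) : ℂ) - ((p.1.1 : ℕ) : ℂ)) *
    (((p.2 : ℕ) : ℂ) - ((p.1.2 : ℕ) : ℂ)) / 2

set_option maxHeartbeats 1000000 in
omit [Fintype G] [Fintype (Cfsg.IrrCharacter G)] in
theorem kron_eps (M : Matrix (Fin 3) (Fin 3) ℂ) :
    (M ⊗ₖ M ⊗ₖ M).mulVec eps = M.det • eps := by
  funext p
  obtain ⟨⟨a, b⟩, c⟩ := p
  simp only [Matrix.mulVec, dotProduct, Fintype.sum_prod_type, Fin.sum_univ_three,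
    Matrix.kronecker_apply, eps, Matrix.det_fin_three, Pi.smul_apply, smul_eq_mul]
  norm_num
  fin_cases a <;> fin_cases b <;> fin_cases c <;> norm_num [show (⟨2, by omega⟩ : Fin 3) = 2 from rfl] <;> ring

omit [Fintype G] [Fintype (Cfsg.IrrCharacter G)] in
theorem eps_ne_zero : eps ≠ 0 := fun h => by
  have := congrFun h ((0, 1), 2)
  norm_num [eps] at this

omit [Fintype (Cfsg.IrrCharacter G)] in
/-- For a three-dimensional representation of determinant one, `Λ²` is the dual and the third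
tensor power has an invariant. -/
theorem three_dim (M : G →* Matrix (Fin 3) (Fin 3) ℂ) (hdet : ∀ g, (M g).det = 1)
    {χ : G → ℂ} (hχ : Cfsg.IsCharacter G χ) (hM : ∀ g, χ g = (M g).trace) :
    (∀ g, χ g * χ g - χ (g * g) = 2 * conj (χ g)) ∧
      Cfsg.classInner (χ * χ) (fun g => conj (χ g)) ≠ 0 := by
  classical
  refine ⟨fun g => ?_, ?_⟩
  · rw [hM g, hM (g * g), map_mul, trace_sq_sub, ← hM g, ← apply_inv hχ, hM g⁻¹]
    congr 2
    calc (M g).adjugate = (M g).adjugate * (M g * M g⁻¹) := by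
          rw [← map_mul, mul_inv_cancel, map_one, mul_one]
      _ = M g⁻¹ := by
          rw [← mul_assoc, Matrix.adjugate_mul, hdet, one_smul, one_mul]
  · intro h0
    set P : Matrix ((Fin 3 × Fin 3) × Fin 3) ((Fin 3 × Fin 3) × Fin 3) ℂ :=
      (Nat.card G : ℂ)⁻¹ • ∑ g : G, M g ⊗ₖ M g ⊗ₖ M g with hP
    have hmul : ∀ g : G, (M g ⊗ₖ M g ⊗ₖ M g) * ∑ h : G, M h ⊗ₖ M h ⊗ₖ M h =
        ∑ h : G, M h ⊗ₖ M h ⊗ₖ M h := by
      intro g
      rw [Finset.mul_sum]
      exact Fintype.sum_equiv (Equiv.mulLeft g) _ _ fun h => by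
        simp [← Matrix.mul_kronecker_mul]
    have hidem : P * P = P := by
      rw [hP, smul_mul_smul_comm, Finset.sum_mul, Finset.sum_congr rfl fun g _ => hmul g,
        Finset.sum_const, Finset.card_univ, ← Nat.cast_smul_eq_nsmul ℂ, smul_smul,
        Fintype.card_eq_nat_card, mul_assoc, inv_mul_cancel₀ natCard_ne_zero, mul_one]
    have htr : P.trace = 0 := by
      rw [← h0, hP, Matrix.trace_smul, Matrix.trace_sum, Cfsg.classInner, smul_eq_mul]
      congr 1
      refine Finset.sum_congr rfl fun g _ => ?_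
      rw [Matrix.trace_kronecker, Matrix.trace_kronecker, Complex.conj_conj, Pi.mul_apply, hM]
    have hP0 := (Indicator.rank_one_of_idempotent P hidem).1 htr
    have hfix : P.mulVec eps = eps := by
      rw [hP, Matrix.smul_mulVec, Matrix.sum_mulVec, Finset.sum_congr rfl fun g _ =>
        (kron_eps (M g)).trans (by rw [hdet, one_smul]), Finset.sum_const, Finset.card_univ,
        ← Nat.cast_smul_eq_nsmul ℂ, smul_smul, Fintype.card_eq_nat_card,
        inv_mul_cancel₀ natCard_ne_zero, one_smul]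
    rw [hP0, Matrix.zero_mulVec] at hfix
    exact eps_ne_zero hfix.symm

end Cfsg.Agent.Lib.FourMinus
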