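import Cfsg.Agent.Lib.FourMinus.Three

/-!
# The characters not vanishing at `u`: `1, χ, χ', ψ` of degrees `1, 3, 3, 5`
-/

set_option autoImplicit false
set_option linter.unusedSectionVars false

namespace Cfsg.Agent.Lib.FourMinus

open Cfsg.Agent.Lib.Induced.Basic Cfsg.Agent.Lib.Characters
open Cfsg.Agent.Lib.Characters.Basic
open Cfsg.Agent.Lib.Characters.Linear (conjChar conjChar_apply)
open scoped ComplexConjugate

universe u

variable {G : Type u} [Group G] [Fintype G] [Fintype (Cfsg.IrrCharacter G)]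

open scoped Classical in
/-- The finset of three-dimensional characters with value `-1` at `u`. -/
noncomputable def threes (u : G) : Finset (Cfsg.IrrCharacter G) :=
  Finset.univ.filter (IsThree u)

theorem mem_threes {u : G} {χ : Cfsg.IrrCharacter G} : χ ∈ threes u ↔ IsThree u χ := by
  simp [threes]

variable {u : G} (hyp : Hyp u)
include hyp

theorem sum_dg_vl (hu : u ≠ 1) : ∑ χ : Cfsg.IrrCharacter G, dg χ * vl u χ = 0 := by
  classical
  have h := Complete.sum_degree_mul_apply u
  rw [if_neg hu] at h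
  have : ((∑ χ : Cfsg.IrrCharacter G, dg χ * vl u χ : ℤ) : ℂ) = 0 := by
    rw [← h, Int.cast_sum]
    exact Finset.sum_congr rfl fun χ _ => by rw [apply_one, apply_u hyp]; push_cast; ring
  exact_mod_cast this

theorem nonneg_or_three {χ : Cfsg.IrrCharacter G} (h : ¬ IsThree u χ) : 0 ≤ dg χ * vl u χ := by
  refine mul_nonneg (dg_pos χ).le ?_
  rcases eq_or_ne χ (oneChar G) with rfl | h1
  · rw [vl_oneChar]; omega
  have h2 := two_le_dg hyp h1
  have h3 : dg χ = 2 → vl u χ = 0 := vl_two hyp
  have h4 : ¬ (dg χ = 3 ∧ vl u χ = -1) := h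
  rcases vl_cases (u := u) h1 with e | e <;> omega

/-- The basic inequality. -/
theorem sum_le (hu : u ≠ 1) (U : Finset (Cfsg.IrrCharacter G))
    (hU : ∀ χ ∈ U, χ ≠ oneChar G ∧ ¬ IsThree u χ) :
    ∑ χ ∈ U, dg χ * vl u χ ≤ 3 * ((threes u).card : ℤ) - 1 := by
  classical
  have hd1 : oneChar G ∉ threes u ∪ U := by
    rw [Finset.mem_union, not_or]
    exact ⟨fun h => (mem_threes.1 h).ne_one rfl, fun h => (hU _ h).1 rfl⟩
  have hd2 : Disjoint (threes u) U :=
    Finset.disjoint_left.2 fun χ h1 h2 => (hU χ h2).2 (mem_threes.1 h1)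
  have h0 := sum_dg_vl hyp hu
  rw [← Finset.sum_sdiff (Finset.subset_univ (insert (oneChar G) (threes u ∪ U))),
    Finset.sum_insert hd1, Finset.sum_union hd2, dg_oneChar, vl_oneChar] at h0
  have hr : 0 ≤ ∑ χ ∈ Finset.univ \ insert (oneChar G) (threes u ∪ U), dg χ * vl u χ :=
    Finset.sum_nonneg fun χ hχ => by
      simp only [Finset.mem_sdiff, Finset.mem_insert, Finset.mem_union, not_or] at hχ
      exact nonneg_or_three hyp fun h => hχ.2.2.1 (mem_threes.2 h)
  have ht : ∑ χ ∈ threes u, dg χ * vl u χ = -3 * ((threes u).card : ℤ) := by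
    rw [Finset.sum_congr rfl fun χ hχ => by
      rw [(mem_threes.1 hχ).1, (mem_threes.1 hχ).2], Finset.sum_const, nsmul_eq_mul]
    ring
  linarith

theorem threes_nonempty (hu : u ≠ 1) : (threes u).Nonempty := by
  have := sum_le hyp hu ∅ (by simp)
  rw [Finset.sum_empty] at this
  exact Finset.card_pos.1 (by omega)

theorem all_real (hu : u ≠ 1) {χ : Cfsg.IrrCharacter G} (hχ : IsThree u χ) : conjChar χ = χ := by
  classical
  by_contra hr
  obtain ⟨σ, θ, hσd, hσv, hθd, hth⟩ := nonreal_decomp hyp hχ hr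
  have h12 := sum_le hyp hu {σ} fun x hx => by
    rw [Finset.mem_singleton.1 hx]
    exact ⟨ne_of_dg (by rw [dg_oneChar, hσd]; omega), fun h => by have := h.1; omega⟩
  rw [Finset.sum_singleton, hσd, hσv] at h12
  -- every other one gives a further character
  have hsame : ∀ η, IsThree u η →
      (η : G → ℂ) * bar (η : G → ℂ) = (χ : G → ℂ) * bar (χ : G → ℂ) := by
    intro η hη
    rcases eq_or_ne χ η with rfl | hne
    · rfl
    obtain ⟨σ', θ', -, -, hθd', hth'⟩ := nonreal_decomp hyp hη fun h => not_mixed hyp hη hχ h hr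
    obtain ⟨-, -, -, -, h5, h6⟩ := cross hyp hχ hη hne
    rw [h5, hth, hth'] at h6
    rw [hth, hth']
    rcases eq_or_ne θ θ' with rfl | hθ
    · rfl
    exfalso
    apply h6
    simp only [classInner_add_left, classInner_add_right, classInner_self_irr,
      classInner_irr_of_ne hθ,
      classInner_irr_of_ne (ne_of_dg (show dg (oneChar G) ≠ dg θ' by rw [dg_oneChar, hθd']; omega)),
      classInner_irr_of_ne (ne_of_dg (show dg θ ≠ dg (oneChar G) by rw [dg_oneChar, hθd]; omega))]
    ring
  have hnine : ∀ η η', IsThree u η → IsThree u η' → η ≠ η' →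
      (∃ c : Cfsg.IrrCharacter G, mult ((η : G → ℂ) * bar (η' : G → ℂ)) c ≠ 0 ∧ c ≠ oneChar G ∧
        (dg c = 5 ∨ dg c = 6) ∧ vl u c = dg c - 4) ∧
      Cfsg.classInner ((χ : G → ℂ) * bar (χ : G → ℂ)) ((η : G → ℂ) * bar (η' : G → ℂ)) = 0 := by
    intro η η' hη hη' hne
    obtain ⟨hp, h0, h1, hv, h5, -⟩ := cross hyp hη hη' hne
    have hn2 : Cfsg.classInner ((η : G → ℂ) * bar (η' : G → ℂ))
        ((η : G → ℂ) * bar (η' : G → ℂ)) = 2 := by
      rw [h5, hsame η hη, hsame η' hη', hth]
      simp only [classInner_add_left, classInner_add_right, classInner_self_irr,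
        classInner_irr_of_ne (ne_of_dg (show dg (oneChar G) ≠ dg θ by rw [dg_oneChar, hθd]; omega)),
        classInner_irr_of_ne (ne_of_dg (show dg θ ≠ dg (oneChar G) by rw [dg_oneChar, hθd]; omega))]
      norm_num
    obtain ⟨hc, hle⟩ := nine_decomp hyp hp hn2 h0 h1 hv
    refine ⟨hc, ?_⟩
    have hθ0 : mult ((η : G → ℂ) * bar (η' : G → ℂ)) θ = 0 := by
      by_contra h
      have := hle θ h
      omega
    rw [hth, classInner_add_left, ← classInner_conj_symm _ (oneChar G : G → ℂ),
      ← classInner_conj_symm _ (θ : G → ℂ), mult_spec hp, mult_spec hp, h0, hθ0]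
    simp
  have hex : ∀ η : ↥((threes u).erase χ),
      ∃ c : Cfsg.IrrCharacter G, mult ((χ : G → ℂ) * bar (η.1 : G → ℂ)) c ≠ 0 ∧ c ≠ oneChar G ∧
        (dg c = 5 ∨ dg c = 6) ∧ vl u c = dg c - 4 := fun η =>
    (hnine χ η.1 hχ (mem_threes.1 (Finset.mem_of_mem_erase η.2))
      (Finset.ne_of_mem_erase η.2).symm).1
  choose c hc1 hc2 hc3 hc4 using hex
  have hinj : Function.Injective c := by
    intro η η' he
    by_contra hne
    have hη := mem_threes.1 (Finset.mem_of_mem_erase η.2)
    have hη' := mem_threes.1 (Finset.mem_of_mem_erase η'.2)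
    have hp := (cross hyp hχ hη (Finset.ne_of_mem_erase η.2).symm).1
    have hp' := (cross hyp hχ hη' (Finset.ne_of_mem_erase η'.2).symm).1
    refine inner_ne_zero hp hp' (hc1 η) (he ▸ hc1 η') ?_
    rw [← (hnine η.1 η'.1 hη hη' fun h => hne (Subtype.ext h)).2]
    simp only [Cfsg.classInner, bar, Pi.mul_apply, map_mul, Complex.conj_conj]
    congr 1
    exact Finset.sum_congr rfl fun g _ => by ring
  have h5 := sum_le hyp hu (Finset.univ.image c) fun x hx => by
    obtain ⟨η, -, rfl⟩ := Finset.mem_image.1 hx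
    exact ⟨hc2 η, fun h => by have := h.1; have := hc3 η; omega⟩
  rw [Finset.sum_image fun a _ b _ h => hinj h] at h5
  have hge : ((threes u).erase χ).card • (5 : ℤ) ≤ ∑ η, dg (c η) * vl u (c η) := by
    calc ((threes u).erase χ).card • (5 : ℤ)
        = ∑ _η : ↥((threes u).erase χ), (5 : ℤ) := by
          rw [Finset.sum_const, Finset.card_univ, Fintype.card_coe]
      _ ≤ _ := Finset.sum_le_sum fun η _ => by
          rcases hc3 η with h | h <;> rw [hc4 η, h] <;> norm_num
  rw [Finset.card_erase_of_mem (mem_threes.2 hχ), nsmul_eq_mul] at hge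
  have hpos : 0 < (threes u).card := Finset.card_pos.2 ⟨χ, mem_threes.2 hχ⟩
  push_cast [Nat.cast_sub hpos] at hge
  omega

/-- The final list. -/
theorem main (hu : u ≠ 1) :
    ∃ χ η ψ : Cfsg.IrrCharacter G, χ ≠ η ∧ IsThree u χ ∧ IsThree u η ∧ dg ψ = 5 ∧ vl u ψ = 1 ∧
      (∀ g, conj ((χ : G → ℂ) g) = (χ : G → ℂ) g) ∧ (∀ g, conj ((η : G → ℂ) g) = (η : G → ℂ) g) ∧
      (∀ g, (χ : G → ℂ) g * (χ : G → ℂ) g = 1 + (χ : G → ℂ) g + (ψ : G → ℂ) g) ∧
      (∀ g, (η : G → ℂ) g * (η : G → ℂ) g = 1 + (η : G → ℂ) g + (ψ : G → ℂ) g) ∧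
      (∀ x, x ≠ oneChar G → x ≠ χ → x ≠ η → x ≠ ψ → vl u x = 0) := by
  classical
  obtain ⟨χ, hχ'⟩ := threes_nonempty hyp hu
  have hχ := mem_threes.1 hχ'
  have hreal : ∀ x : Cfsg.IrrCharacter G, IsThree u x → ∀ g,
      conj ((x : G → ℂ) g) = (x : G → ℂ) g :=
    fun x hx g => by rw [← conjChar_apply, all_real hyp hu hx]
  obtain ⟨ψ, hψd, hψv, hsq⟩ := real_decomp hyp hχ (all_real hyp hu hχ)
  have hbar : ∀ x : Cfsg.IrrCharacter G, IsThree u x → bar (x : G → ℂ) = (x : G → ℂ) :=
    fun x hx => funext (hreal x hx)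
  have hψ1 : ψ ≠ oneChar G := ne_of_dg (by rw [dg_oneChar, hψd]; omega)
  have hψ3 : ∀ x, IsThree u x → ψ ≠ x := fun x hx => ne_of_dg (by rw [hx.1, hψd]; omega)
  -- a common `ψ`
  have hsqs : ∀ x, IsThree u x →
      (x : G → ℂ) * (x : G → ℂ) = (oneChar G : G → ℂ) + (x : G → ℂ) + (ψ : G → ℂ) := by
    intro x hx
    rcases eq_or_ne χ x with rfl | hne
    · exact hsq
    obtain ⟨ψ', hψd', -, hsq'⟩ := real_decomp hyp hx (all_real hyp hu hx)
    rcases eq_or_ne ψ ψ' with rfl | hψ
    · exact hsq'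
    exfalso
    obtain ⟨-, -, -, -, h5, h6⟩ := cross hyp hχ hx hne
    apply h6
    rw [h5, hbar χ hχ, hbar x hx, hsq, hsq']
    simp only [classInner_add_left, classInner_add_right, classInner_self_irr,
      classInner_irr_of_ne hne, classInner_irr_of_ne hψ, classInner_irr_of_ne hχ.ne_one,
      classInner_irr_of_ne hx.ne_one.symm, classInner_irr_of_ne (hψ3 x hx),
      classInner_irr_of_ne hψ1,
      classInner_irr_of_ne (ne_of_dg (show dg χ ≠ dg ψ' by rw [hχ.1, hψd']; omega)),
      classInner_irr_of_ne (ne_of_dg (show dg (oneChar G) ≠ dg ψ' by rw [dg_oneChar, hψd']; omega))]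
    ring
  have h5 := sum_le hyp hu {ψ} fun x hx => by
    rw [Finset.mem_singleton.1 hx]
    exact ⟨hψ1, fun h => by have := h.1; omega⟩
  rw [Finset.sum_singleton, hψd, hψv] at h5
  -- `ψ` is a constituent of each product
  have hA : ∀ η, IsThree u η → χ ≠ η →
      Cfsg.classInner (ψ : G → ℂ) ((χ : G → ℂ) * (η : G → ℂ)) = 1 := by
    intro η hη hne
    set A := Cfsg.classInner (ψ : G → ℂ) ((χ : G → ℂ) * (η : G → ℂ)) with hAdef
    set z : G → ℂ := (χ : G → ℂ) with hz
    set w : G → ℂ := (η : G → ℂ) with hw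
    have hg2 : ∀ g, z (g * g) = z g * z g - 2 * z g ∧ w (g * g) = w g * w g - 2 * w g := by
      intro g
      constructor
      · have := (three_facts hyp hχ).1 g
        rw [hreal χ hχ] at this
        linear_combination -this
      · have := (three_facts hyp hη).1 g
        rw [hreal η hη] at this
        linear_combination -this
    have hrel : ∀ g, z g = w g ∨ z g + w g = 1 := by
      intro g
      have e1 := congrFun hsq g
      have e2 := congrFun (hsqs η hη) g
      simp only [Pi.mul_apply, Pi.add_apply, oneChar_apply] at e1 e2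
      have : (z g - w g) * (z g + w g - 1) = 0 := by
        simp only [hz, hw]
        linear_combination e1 - e2
      rcases mul_eq_zero.1 this with h | h
      · exact Or.inl (sub_eq_zero.1 h)
      · exact Or.inr (sub_eq_zero.1 h)
    have hfour : ∀ g, (z g - w g) ^ 4 = 5 * (z g - w g) ^ 2 := by
      intro g
      rcases eq_or_ne (z g) (w g) with h | h
      · rw [h]; ring
      have hs := (hrel g).resolve_left h
      have h2 : z (g * g) + w (g * g) = 1 := by
        refine (hrel (g * g)).resolve_left fun e => h ?_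
        rw [(hg2 g).1, (hg2 g).2] at e
        linear_combination -e + (z g - w g) * hs
      rw [(hg2 g).1, (hg2 g).2] at h2
      have hzw : z g * w g = -1 := by linear_combination (-1/2 : ℂ) * h2 + ((z g + w g - 1) / 2) * hs
      linear_combination (z g - w g) ^ 2 * ((z g + w g + 1) * hs - 4 * hzw)
    have hcz : ∀ g, conj (z g) = z g := hreal χ hχ
    have hcw : ∀ g, conj (w g) = w g := hreal η hη
    have hexp : Cfsg.classInner (z * z) (z * z) - 4 * Cfsg.classInner (z * z) (z * w) +
        6 * Cfsg.classInner (z * z) (w * w) - 4 * Cfsg.classInner (w * w) (z * w) +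
        Cfsg.classInner (w * w) (w * w) =
        5 * (Cfsg.classInner z z - 2 * Cfsg.classInner z w + Cfsg.classInner w w) := by
      simp only [Cfsg.classInner, Pi.mul_apply, map_mul, hcz, hcw, Finset.mul_sum,
        ← Finset.sum_add_distrib, ← Finset.sum_sub_distrib]
      refine Finset.sum_congr rfl fun g _ => ?_
      linear_combination (Nat.card G : ℂ)⁻¹ * hfour g
    have h1zw : Cfsg.classInner (oneChar G : G → ℂ) (z * w) = 0 := by
      rw [← classInner_irr_of_ne hne]
      simp [Cfsg.classInner, oneChar_apply, hz, hw, hreal χ hχ]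
    have hzzw : Cfsg.classInner z (z * w) = 0 := by
      have : Cfsg.classInner z (z * w) = Cfsg.classInner (z * z) w := by
        simp only [Cfsg.classInner, Pi.mul_apply, map_mul, hcz, hcw]
        congr 1
        exact Finset.sum_congr rfl fun g _ => by ring
      rw [this, show z * z = (oneChar G : G → ℂ) + z + (ψ : G → ℂ) from hsq, hz, hw]
      simp only [classInner_add_left, classInner_irr_of_ne hne, classInner_irr_of_ne (hψ3 η hη),
        classInner_irr_of_ne hη.ne_one.symm]
      ring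
    have hwzw : Cfsg.classInner w (z * w) = 0 := by
      have : Cfsg.classInner w (z * w) = Cfsg.classInner (w * w) z := by
        simp only [Cfsg.classInner, Pi.mul_apply, map_mul, hcz, hcw]
        congr 1
        exact Finset.sum_congr rfl fun g _ => by ring
      rw [this, show w * w = (oneChar G : G → ℂ) + w + (ψ : G → ℂ) from hsqs η hη, hz, hw]
      simp only [classInner_add_left, classInner_irr_of_ne hne.symm,
        classInner_irr_of_ne (hψ3 χ hχ), classInner_irr_of_ne hχ.ne_one.symm]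
      ring
    rw [show z * z = (oneChar G : G → ℂ) + z + (ψ : G → ℂ) from hsq,
      show w * w = (oneChar G : G → ℂ) + w + (ψ : G → ℂ) from hsqs η hη] at hexp
    simp only [classInner_add_left, classInner_add_right, h1zw, hzzw, hwzw, ← hAdef] at hexp
    simp only [hz, hw, classInner_self_irr, classInner_irr_of_ne hne,
      classInner_irr_of_ne hne.symm, classInner_irr_of_ne hχ.ne_one,
      classInner_irr_of_ne hχ.ne_one.symm, classInner_irr_of_ne hη.ne_one,
      classInner_irr_of_ne hη.ne_one.symm, classInner_irr_of_ne hψ1,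
      classInner_irr_of_ne hψ1.symm, classInner_irr_of_ne (hψ3 χ hχ),
      classInner_irr_of_ne (hψ3 χ hχ).symm, classInner_irr_of_ne (hψ3 η hη),
      classInner_irr_of_ne (hψ3 η hη).symm] at hexp
    linear_combination (-1/8 : ℂ) * hexp
  have hprod := isCharacter_mul (isCharacter_irr χ) (isCharacter_irr ψ)
  have hm : ∀ η, IsThree u η → mult ((χ : G → ℂ) * (ψ : G → ℂ)) η = 1 := by
    intro η hη
    refine mult_of_inner hprod ?_
    have : Cfsg.classInner ((χ : G → ℂ) * (ψ : G → ℂ)) (η : G → ℂ) =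
        Cfsg.classInner (ψ : G → ℂ) ((χ : G → ℂ) * (η : G → ℂ)) := by
      simp only [Cfsg.classInner, Pi.mul_apply, map_mul, hreal χ hχ, hreal η hη]
      congr 1
      exact Finset.sum_congr rfl fun g _ => by ring
    rw [this, Nat.cast_one]
    rcases eq_or_ne χ η with rfl | hne
    · rw [hsq]
      simp only [classInner_add_right, classInner_self_irr, classInner_irr_of_ne hψ1,
        classInner_irr_of_ne (hψ3 χ hχ)]
      ring
    · exact hA η hη hne
  have hcard5 : (threes u).card ≤ 5 := by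
    obtain ⟨e1, -⟩ := deg_val hyp hprod
    have h15 : ((χ : G → ℂ) * (ψ : G → ℂ)) 1 = ((15 : ℤ) : ℂ) := by
      simp only [Pi.mul_apply, apply_one, hχ.1, hψd]; norm_num
    rw [h15, Int.cast_inj] at e1
    have h3 : ∑ x ∈ threes u, (mult ((χ : G → ℂ) * (ψ : G → ℂ)) x : ℤ) * dg x =
        3 * ((threes u).card : ℤ) := by
      rw [Finset.sum_congr rfl fun x hx => by
        rw [hm x (mem_threes.1 hx), (mem_threes.1 hx).1], Finset.sum_const, nsmul_eq_mul]
      push_cast
      ring
    have hle := Finset.sum_le_sum_of_subset_of_nonneg (Finset.subset_univ (threes u))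
      (f := fun x => (mult ((χ : G → ℂ) * (ψ : G → ℂ)) x : ℤ) * dg x)
      fun x _ _ => mul_nonneg (Int.natCast_nonneg _) (dg_pos x).le
    omega
  -- the others
  set O := Finset.univ.filter fun x : Cfsg.IrrCharacter G =>
    x ≠ oneChar G ∧ ¬ IsThree u x ∧ x ≠ ψ ∧ vl u x ≠ 0 with hO
  have hd1 : oneChar G ∉ insert ψ (threes u ∪ O) := by
    simp only [Finset.mem_insert, Finset.mem_union, not_or, hO, Finset.mem_filter]
    exact ⟨hψ1.symm, fun h => (mem_threes.1 h).ne_one rfl, fun h => h.2.1 rfl⟩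
  have hd2 : ψ ∉ threes u ∪ O := by
    simp only [Finset.mem_union, not_or, hO, Finset.mem_filter]
    exact ⟨fun h => hψ3 ψ (mem_threes.1 h) rfl, fun h => h.2.2.2.1 rfl⟩
  have hd3 : Disjoint (threes u) O := Finset.disjoint_left.2 fun x h1 h2 =>
    (Finset.mem_filter.1 h2).2.2.1 (mem_threes.1 h1)
  have h0 := sum_dg_vl hyp hu
  rw [← Finset.sum_sdiff (Finset.subset_univ (insert (oneChar G) (insert ψ (threes u ∪ O)))),
    Finset.sum_insert hd1, Finset.sum_insert hd2, Finset.sum_union hd3, dg_oneChar, vl_oneChar,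
    hψd, hψv, Finset.sum_eq_zero (s := Finset.univ \ _) fun x hx => by
      simp only [Finset.mem_sdiff, Finset.mem_insert, Finset.mem_union, not_or, hO,
        Finset.mem_filter] at hx
      rw [mul_eq_zero]
      exact Or.inr (by_contra fun hv => hx.2.2.2.2 ⟨Finset.mem_univ _, hx.2.1,
        fun h => hx.2.2.2.1 (mem_threes.2 h), hx.2.2.1, hv⟩),
    Finset.sum_congr rfl (s₁ := threes u) fun x hx => by
      rw [(mem_threes.1 hx).1, (mem_threes.1 hx).2], Finset.sum_const, nsmul_eq_mul] at h0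
  have hO5 : ∀ x ∈ O, dg x * vl u x = 5 := by
    intro x hx
    obtain ⟨-, hx1, hx3, -, hxv⟩ := Finset.mem_filter.1 hx
    have hnn : 0 ≤ dg x * vl u x := nonneg_or_three hyp hx3
    have hle : dg x * vl u x ≤ ∑ y ∈ O, dg y * vl u y :=
      Finset.single_le_sum (f := fun y => dg y * vl u y)
        (fun y hy => nonneg_or_three hyp (Finset.mem_filter.1 hy).2.2.1) hx
    have hv := (vl_cases (u := u) hx1).resolve_left hxv
    have h2 := two_le_dg hyp hx1
    have hd5 : 5 ≤ dg x := by
      have h4 : dg x = 2 → vl u x = 0 := vl_two hyp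
      have h6 : ¬ (dg x = 3 ∧ vl u x = -1) := hx3
      omega
    rcases eq_or_lt_of_le hd5 with h | h
    · rw [hv, ← h]; norm_num
    · exfalso
      rw [hv] at hle
      nlinarith
  rw [Finset.sum_congr rfl hO5, Finset.sum_const, nsmul_eq_mul] at h0
  have hcard : (threes u).card = 2 ∧ O.card = 0 := by
    push_cast at h0
    omega
  obtain ⟨a, b, hab, he⟩ := Finset.card_eq_two.1 hcard.1
  obtain ⟨η, hne, hη⟩ : ∃ η, χ ≠ η ∧ IsThree u η := by
    rcases eq_or_ne χ a with rfl | h
    · exact ⟨b, hab, mem_threes.1 (by simp [he])⟩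
    · exact ⟨a, h, mem_threes.1 (by simp [he])⟩
  refine ⟨χ, η, ψ, hne, hχ, hη, hψd, hψv, hreal χ hχ, hreal η hη,
    fun g => ?_, fun g => ?_, fun x h1 h2 h3 h4 => ?_⟩
  · simpa [oneChar_apply] using congrFun hsq g
  · simpa [oneChar_apply] using congrFun (hsqs η hη) g
  · by_contra hv
    have hx : ¬ IsThree u x := fun h => by
      have e : x ∈ threes u := mem_threes.2 h
      have e1 : χ ∈ threes u := hχ'
      have e2 : η ∈ threes u := mem_threes.2 hη
      rw [he] at e e1 e2
      simp only [Finset.mem_insert, Finset.mem_singleton] at e e1 e2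
      grind
    have := Finset.card_eq_zero.1 hcard.2
    have hxO : x ∈ O := Finset.mem_filter.2 ⟨Finset.mem_univ _, h1, hx, h4, hv⟩
    simp [this] at hxO

end Cfsg.Agent.Lib.FourMinus
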