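import Cfsg.Agent.Lib.FourMinus.Count
import Cfsg.Agent.S0840

/-!
# The quotient of order `60`
-/

set_option autoImplicit false
set_option linter.unusedSectionVars false
set_option linter.style.haveILetI false

namespace Cfsg.Agent.Lib.FourMinus

open Cfsg.Agent.Lib.Induced.Basic Cfsg.Agent.Lib.Characters
open Cfsg.Agent.Lib.Characters.Basic
open scoped ComplexConjugate

universe u

variable {G : Type u} [Group G] [Finite G]

theorem card_class_mul (g : G) :
    Nat.card {x : G // IsConj g x} * Nat.card (Subgroup.centralizer ({g} : Set G)) = Nat.card G :=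
  Complete.card_conjugates_mul_centralizer g

/-- What the characters give. -/
theorem quotient_data {u : G} (hu : u ≠ 1)
    (hyp : ∀ χ : Cfsg.IrrCharacter G, χ ≠ oneChar G →
      (χ : G → ℂ) 1 - (χ : G → ℂ) u = 4 ∨ (χ : G → ℂ) u = 0) :
    ∃ (K : Subgroup G) (_ : K.Normal), u ∉ K ∧ u * u ∈ K ∧ Nat.card (G ⧸ K) = 60 ∧
      commutator G = ⊤ ∧ Nat.card (Subgroup.centralizer ({u} : Set G)) = 4 ∧
      (∀ g : G, IsConj (u : G ⧸ K) (g : G ⧸ K) → IsConj u g) ∧
      ∃ x : G ⧸ K, x ≠ 1 ∧ x ≠ (u : G ⧸ K) ∧ x * (u : G ⧸ K) = (u : G ⧸ K) * x ∧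
        IsConj (u : G ⧸ K) x ∧ IsConj (u : G ⧸ K) (x * (u : G ⧸ K)) ∧ x * x = 1 ∧
        Nat.card (Subgroup.centralizer ({(u : G ⧸ K)} : Set (G ⧸ K))) = 4 := by
  classical
  letI := Fintype.ofFinite G
  letI := Fintype.ofFinite (Cfsg.IrrCharacter G)
  have hyp' : Hyp u := hyp
  obtain ⟨χ, η, ψ, hne, hχ, hη, hψd, hψv, hcχ, hcη, hsχ, hsη, hrest⟩ := main hyp' hu
  set K := Kernel.charKer (isCharacter_irr ψ) with hKdef
  haveI hKn : K.Normal := Kernel.charKer_normal _
  have hψ1 : ψ ≠ oneChar G := ne_of_dg (by rw [dg_oneChar, hψd]; omega)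
  -- the three-dimensional characters kill `K`
  have hker : ∀ z : Cfsg.IrrCharacter G, IsThree u z →
      (∀ g, conj ((z : G → ℂ) g) = (z : G → ℂ) g) →
      (∀ g, (z : G → ℂ) g * (z : G → ℂ) g = 1 + (z : G → ℂ) g + (ψ : G → ℂ) g) →
      ∀ g ∈ K, (z : G → ℂ) g = (z : G → ℂ) 1 := by
    intro z hz hcz hsz g hg
    rw [hKdef, Kernel.mem_charKer, apply_one, hψd] at hg
    push_cast at hg
    have h := hsz g
    rw [hg] at h
    have h2 : ((z : G → ℂ) g - 3) * ((z : G → ℂ) g + 2) = 0 := by linear_combination h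
    rw [apply_one, hz.1]
    push_cast
    rcases mul_eq_zero.1 h2 with e | e
    · exact sub_eq_zero.1 e
    · exfalso
      have h3 := (three_facts hyp' hz).1 g
      rw [hcz g, show (z : G → ℂ) g = -2 by linear_combination e] at h3
      have h8 : (z : G → ℂ) (g * g) = 8 := by linear_combination -h3
      have hb := norm_apply_le (isCharacter_irr z) (g * g)
      rw [h8, apply_one, hz.1] at hb
      norm_num at hb
  have huK : u ∉ K := by
    rw [hKdef, Kernel.mem_charKer, apply_one, apply_u hyp', hψd, hψv]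
    norm_num
  have huuK : u * u ∈ K := by
    rw [hKdef, Kernel.mem_charKer, apply_one, hψd]
    have h3 := (three_facts hyp' hχ).1 u
    rw [hcχ u, apply_u hyp', hχ.2] at h3
    have h1 := hsχ (u * u)
    rw [show (χ : G → ℂ) (u * u) = 3 by push_cast at h3; linear_combination -h3] at h1
    push_cast
    linear_combination -h1
  have hχη : χ ≠ η := hne
  have hψχ : ψ ≠ χ := ne_of_dg (by rw [hχ.1, hψd]; omega)
  have hψη : ψ ≠ η := ne_of_dg (by rw [hη.1, hψd]; omega)
  set S : Finset (Cfsg.IrrCharacter G) := {oneChar G, χ, η, ψ} with hS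
  have hS4 : ∀ f : Cfsg.IrrCharacter G → ℂ,
      ∑ z ∈ S, f z = f (oneChar G) + f χ + f η + f ψ := by
    intro f
    rw [hS, Finset.sum_insert (by simp [hχ.ne_one.symm, hη.ne_one.symm, hψ1.symm]),
      Finset.sum_insert (by simp [hχη, hψχ.symm]), Finset.sum_pair hψη.symm]
    ring
  have hout : ∀ z, z ∉ S → (z : G → ℂ) u = 0 := by
    intro z hz
    simp only [hS, Finset.mem_insert, Finset.mem_singleton, not_or] at hz
    rw [apply_u hyp', hrest z hz.1 hz.2.1 hz.2.2.1 hz.2.2.2]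
    simp
  have hSK : ∀ z ∈ S, ∀ g ∈ K, (z : G → ℂ) g = (z : G → ℂ) 1 := by
    intro z hz g hg
    simp only [hS, Finset.mem_insert, Finset.mem_singleton] at hz
    rcases hz with rfl | rfl | rfl | rfl
    · rfl
    · exact hker _ hχ hcχ hsχ g hg
    · exact hker _ hη hcη hsη g hg
    · exact hg
  -- centralizer of `u`
  have hC : Nat.card (Subgroup.centralizer ({u} : Set G)) = 4 := by
    have h := Complete.sum_irr_mul_conj u u
    rw [if_pos (IsConj.refl u), ← Finset.sum_subset (Finset.subset_univ S) fun z _ hz => by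
      rw [hout z hz]; ring, hS4] at h
    simp only [apply_u hyp', hχ.2, hη.2, hψv, vl_oneChar, map_intCast] at h
    push_cast at h
    ring_nf at h
    exact_mod_cast h.symm
  -- the quotient
  letI := Fintype.ofFinite (G ⧸ K)
  letI := Fintype.ofFinite (Cfsg.IrrCharacter (G ⧸ K))
  have hQsum : ∀ f : ℂ → ℂ → ℂ, (∀ d, f d 0 = 0) →
      ∑ z : Cfsg.IrrCharacter (G ⧸ K), f ((z : G ⧸ K → ℂ) 1) ((z : G ⧸ K → ℂ) (u : G ⧸ K)) =
        f 1 1 + f 3 (-1) + f 3 (-1) + f 5 1 := by
    intro f hf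
    have e1 : ∑ z : Cfsg.IrrCharacter (G ⧸ K),
        f ((z : G ⧸ K → ℂ) 1) ((z : G ⧸ K → ℂ) (u : G ⧸ K)) =
        ∑ z : {z : Cfsg.IrrCharacter G // ∀ g ∈ K, (z : G → ℂ) g = (z : G → ℂ) 1},
          f ((z.1 : G → ℂ) 1) ((z.1 : G → ℂ) u) :=
      Fintype.sum_equiv (Kernel.inflateEquiv K) _ _ fun z => by
        rw [Kernel.inflateEquiv_apply, Kernel.inflateEquiv_apply, QuotientGroup.mk_one]
    rw [e1, ← Finset.sum_subtype (Finset.univ.filter fun z : Cfsg.IrrCharacter G =>
      ∀ g ∈ K, (z : G → ℂ) g = (z : G → ℂ) 1) (fun z => by simp)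
      fun z => f ((z : G → ℂ) 1) ((z : G → ℂ) u),
      ← Finset.sum_subset (s₁ := S) (fun z hz => Finset.mem_filter.2 ⟨Finset.mem_univ _, hSK z hz⟩)
        fun z _ hz => by rw [hout z hz, hf], hS4]
    simp [apply_one, apply_u hyp', hχ.1, hχ.2, hη.1, hη.2, hψd, hψv, dg_oneChar, vl_oneChar]
  have hreal : ∀ z : Cfsg.IrrCharacter (G ⧸ K),
      conj ((z : G ⧸ K → ℂ) (u : G ⧸ K)) = (z : G ⧸ K → ℂ) (u : G ⧸ K) := by
    intro z
    rw [← Kernel.inflateEquiv_apply, apply_u hyp', map_intCast]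
  have hCQ : Nat.card (Subgroup.centralizer ({(u : G ⧸ K)} : Set (G ⧸ K))) = 4 := by
    have h := Complete.sum_irr_mul_conj (u : G ⧸ K) (u : G ⧸ K)
    rw [if_pos (IsConj.refl _)] at h
    have h2 := hQsum (fun _ v => v * v) (fun _ => mul_zero 0)
    simp only [hreal] at h
    rw [h] at h2
    ring_nf at h2
    exact_mod_cast h2
  -- the count of pairs
  set q : G ⧸ K := (u : G ⧸ K) with hq
  have hq1 : q ≠ 1 := fun h => huK ((QuotientGroup.eq_one_iff u).1 h)
  have hqq : q * q = 1 := by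
    rw [hq, ← QuotientGroup.mk_mul]; exact (QuotientGroup.eq_one_iff _).2 huuK
  have hcl := card_class_mul (G := G ⧸ K) q
  rw [hCQ] at hcl
  set n := Nat.card {p : (G ⧸ K) × (G ⧸ K) // IsConj q p.1 ∧ IsConj q p.2 ∧ p.1 * p.2 = q} with hn
  have hn30 : n * 30 = Nat.card (G ⧸ K) := by
    have h := Cfsg.Agent.S0840.result q q q
    rw [finsum_eq_sum_of_fintype] at h
    have h2 := hQsum (fun d v => v * v * v / d) (fun d => by simp)
    simp only [hreal] at h
    rw [h2] at h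
    have hc : (Nat.card {x : G ⧸ K // IsConj q x} : ℂ) * 4 = (Nat.card (G ⧸ K) : ℂ) := by
      exact_mod_cast hcl
    have h0 : (Nat.card (G ⧸ K) : ℂ) ≠ 0 := natCard_ne_zero
    have : ((n * 30 : ℕ) : ℂ) = (Nat.card (G ⧸ K) : ℂ) := by
      rw [Nat.cast_mul, hn, h, ← hc]
      rw [← hc] at h0
      field_simp
      ring
    exact_mod_cast this
  have hpmem : ∀ x y : G ⧸ K, IsConj q x → IsConj q y → x * y = q →
      x * x = 1 ∧ x * q = q * x ∧ y = x * q ∧ x ≠ 1 ∧ x ≠ q := by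
    intro x y hx hy hxy
    have hsq : ∀ z, IsConj q z → z * z = 1 ∧ z ≠ 1 := by
      intro z hz
      obtain ⟨c, hc⟩ := isConj_iff.1 hz
      rw [← hc]
      refine ⟨by rw [show c * q * c⁻¹ * (c * q * c⁻¹) = c * (q * q) * c⁻¹ by group, hqq]; simp,
        fun h => hq1 ?_⟩
      rwa [conj_eq_one_iff] at h
    obtain ⟨hxx, hx1⟩ := hsq x hx
    obtain ⟨hyy, hy1⟩ := hsq y hy
    have hxi : x⁻¹ = x := inv_eq_of_mul_eq_one_right hxx
    have hyi : y⁻¹ = y := inv_eq_of_mul_eq_one_right hyy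
    have hqi : q⁻¹ = q := inv_eq_of_mul_eq_one_right hqq
    have hy' : y = x * q := by rw [← hxy, ← mul_assoc, hxx, one_mul]
    refine ⟨hxx, ?_, hy', hx1, fun h => hy1 ?_⟩
    · calc x * q = y⁻¹ := by rw [hyi, hy']
        _ = q * x := by rw [hy', mul_inv_rev, hqi, hxi]
    · rw [hy', h, hqq]
  have hnle : n ≤ 2 := by
    set T := (Finset.univ.filter fun z : G ⧸ K => z * q = q * z) \ {1, q} with hT
    have hTc : T.card = 2 := by
      rw [hT, Finset.card_sdiff_of_subset, Finset.card_pair (Ne.symm hq1)]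
      · have : (Finset.univ.filter fun z : G ⧸ K => z * q = q * z).card = 4 := by
          rw [← hCQ, ← Fintype.card_subtype, Nat.card_eq_fintype_card]
          exact Fintype.card_congr (Equiv.subtypeEquivRight fun z => by
            rw [Subgroup.mem_centralizer_singleton_iff])
        rw [this]
      · intro z hz
        rw [Finset.mem_insert, Finset.mem_singleton] at hz
        rcases hz with rfl | rfl <;> simp
    rw [hn, ← hTc, ← Nat.card_eq_finsetCard]
    refine Nat.card_le_card_of_injective (fun p => ⟨p.1.1, ?_⟩) ?_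
    · obtain ⟨-, h2, -, h4, h5⟩ := hpmem _ _ p.2.1 p.2.2.1 p.2.2.2
      simp [hT, h2, h4, h5]
    · intro p p' h
      have h1 : p.1.1 = p'.1.1 := congrArg Subtype.val h
      refine Subtype.ext (Prod.ext h1 ?_)
      rw [(hpmem _ _ p.2.1 p.2.2.1 p.2.2.2).2.2.1, (hpmem _ _ p'.2.1 p'.2.2.1 p'.2.2.2).2.2.1, h1]
  have hn0 : 0 < n := by
    rcases Nat.eq_zero_or_pos n with h | h
    · rw [h, zero_mul] at hn30
      exact absurd hn30.symm Nat.card_pos.ne'
    · exact h
  obtain ⟨⟨⟨x, y⟩, hx, hy, hxy⟩⟩ := (Nat.card_pos_iff.1 hn0).1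
  obtain ⟨hxx, hxq, hyx, hx1, hxne⟩ := hpmem x y hx hy hxy
  have hy' := hy
  simp only at hy'
  rw [hyx] at hy'
  obtain ⟨hyy, -, -, -, -⟩ := hpmem y x hy hx (by
    rw [hyx, mul_assoc, ← hxq, ← mul_assoc, hxx, one_mul])
  have hn2 : n = 2 := by
    refine le_antisymm hnle ?_
    have hxy' : x ≠ y := fun h => hq1 (by rw [← hxy, ← h, hxx])
    have hyx' : y * x = q := by rw [hyx, mul_assoc, ← hxq, ← mul_assoc, hxx, one_mul]
    haveI : Nontrivial {p : (G ⧸ K) × (G ⧸ K) // IsConj q p.1 ∧ IsConj q p.2 ∧ p.1 * p.2 = q} :=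
      ⟨⟨(x, y), hx, hy, hxy⟩, ⟨(y, x), hy, hx, hyx'⟩, fun h =>
        hxy' (congrArg (fun p : {p : (G ⧸ K) × (G ⧸ K) // IsConj q p.1 ∧ IsConj q p.2 ∧ p.1 * p.2 = q} => p.1.1) h)⟩
    rw [hn]
    exact Finite.one_lt_card
  have h60 : Nat.card (G ⧸ K) = 60 := by omega
  -- the class of `u` is a full preimage
  have hfull : ∀ g : G, IsConj q (g : G ⧸ K) → IsConj u g := by
    intro g hg
    by_contra hng
    let f : {z : G // IsConj u z} → {z : G // IsConj q (z : G ⧸ K)} :=
      fun z => ⟨z.1, (QuotientGroup.mk' K).map_isConj z.2⟩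
    have hf : Function.Injective f := fun a b h =>
      Subtype.ext (congrArg (fun z : {z : G // IsConj q (z : G ⧸ K)} => z.1) h)
    have hlt := Fintype.card_lt_of_injective_not_surjective f hf fun hs => by
      obtain ⟨z, hz⟩ := hs ⟨g, hg⟩
      exact hng (by rw [← show z.1 = g from congrArg Subtype.val hz]; exact z.2)
    rw [← Nat.card_eq_fintype_card, ← Nat.card_eq_fintype_card] at hlt
    have hpre : Nat.card {z : G // IsConj q (z : G ⧸ K)} =
        Nat.card K * Nat.card {z : G ⧸ K // IsConj q z} := by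
      rw [← Nat.card_prod]
      exact Nat.card_congr (QuotientGroup.preimageMkEquivSubgroupProdSet K {z | IsConj q z})
    rw [hpre] at hlt
    have e1 := card_class_mul (G := G) u
    rw [hC] at e1
    have e2 := Subgroup.card_mul_index K
    rw [Subgroup.index_eq_card] at e2
    rw [← hcl] at e2
    have e3 : Nat.card K * (Nat.card {z : G ⧸ K // IsConj q z} * 4) =
        Nat.card {z : G // IsConj u z} * 4 := e2.trans e1.symm
    nlinarith
  exact ⟨K, hKn, huK, huuK, h60, commutator_eq_top hyp', hC, hfull,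
    x, hx1, hxne, hxq, hx, hy', hxx, hCQ⟩

end Cfsg.Agent.Lib.FourMinus
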