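import Cfsg.Agent.Lib.FourMinus.Quotient
import Cfsg.Agent.Lib.Cores.Basic
import Cfsg.Agent.Lib.PGroups.Omega
import Cfsg.Agent.Lib.TwoGroups.Recognition
import Cfsg.Agent.Lib.Involutions.IndexTwo
import Cfsg.Agent.Lib.Spectrum.SL25Recognition
import Cfsg.Agent.Lib.Linear.SmallIso.PSL5

/-!
# Structure: `G/O(G)` is `PSL(2,5)` or `SL(2,5)` and `O(G)` is abelian
-/

set_option autoImplicit false
set_option linter.unusedSectionVars false
set_option linter.style.haveILetI false

namespace Cfsg.Agent.Lib.FourMinus

universe u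

variable {G : Type u} [Group G] [Finite G]

theorem centralizer_card_of_isConj {a b : G} (h : IsConj a b) :
    Nat.card (Subgroup.centralizer ({a} : Set G)) =
      Nat.card (Subgroup.centralizer ({b} : Set G)) := by
  have e : Nat.card {x : G // IsConj a x} = Nat.card {x : G // IsConj b x} :=
    Nat.card_congr (Equiv.subtypeEquivRight fun x => ⟨fun h' => h.symm.trans h', fun h' => h.trans h'⟩)
  have h1 := card_class_mul a
  have h2 := card_class_mul b
  haveI : Nonempty {x : G // IsConj b x} := ⟨⟨b, IsConj.refl b⟩⟩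
  rw [e, ← h2] at h1
  exact Nat.eq_of_mul_eq_mul_left Nat.card_pos h1

theorem orderOf_of_isConj {a b : G} (h : IsConj a b) : orderOf b = orderOf a := by
  obtain ⟨c, rfl⟩ := isConj_iff.1 h
  exact MulEquiv.orderOf_eq (MulAut.conj c) a

theorem eq_one_of_mul_self_of_odd {H : Subgroup G} (hH : (Nat.card H).Coprime 2) {x : G}
    (hx : x ∈ H) (h2 : x * x = 1) : x = 1 := by
  rw [← orderOf_eq_one_iff]
  have h1 : orderOf x ∣ 2 := orderOf_dvd_of_pow_eq_one (by rw [sq, h2])
  have h3 : orderOf x ∣ Nat.card H := Subgroup.orderOf_dvd_natCard H hx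
  exact Nat.eq_one_of_dvd_coprimes hH h3 h1

/-- An involutive conjugation without fixed points on a subgroup inverts it. -/
theorem inverts_of_fpf {H : Subgroup G} {a : G} (hmem : ∀ h ∈ H, a * h * a⁻¹ ∈ H)
    (h2 : ∀ h ∈ H, a * (a * h * a⁻¹) * a⁻¹ = h) (hfix : ∀ h ∈ H, a * h * a⁻¹ = h → h = 1) :
    (∀ h ∈ H, a * h * a⁻¹ = h⁻¹) ∧ ∀ h ∈ H, ∀ k ∈ H, h * k = k * h := by
  let φ : H →* H :=
    { toFun := fun h => ⟨a * h.1 * a⁻¹, hmem h.1 h.2⟩
      map_one' := Subtype.ext (by simp)
      map_mul' := fun x y => Subtype.ext (by simp [mul_assoc]) }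
  have hφ : MonoidHom.FixedPointFree φ := fun h e =>
    Subtype.ext (hfix h.1 h.2 (congrArg Subtype.val e))
  have hinv : Function.Involutive φ := fun h => Subtype.ext (h2 h.1 h.2)
  refine ⟨fun h hh => congrArg Subtype.val (congrFun (hφ.coe_eq_inv_of_involutive hinv) ⟨h, hh⟩),
    fun h hh k hk => congrArg Subtype.val ((hφ.commute_all_of_involutive hinv ⟨h, hh⟩ ⟨k, hk⟩).eq)⟩

theorem not_solvable_of_perfect {H : Type*} [Group H] [Nontrivial H] (h : commutator H = ⊤) :
    ¬ Group.IsSolvable H := fun hs => (hs.commutator_lt_top_of_nontrivial).ne h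

theorem commutator_quotient {K : Subgroup G} [K.Normal] (h : commutator G = ⊤) :
    commutator (G ⧸ K) = ⊤ := by
  have := Subgroup.map_commutator (⊤ : Subgroup G) ⊤ (QuotientGroup.mk' K)
  rw [Subgroup.map_top_of_surjective _ (QuotientGroup.mk'_surjective K), ← commutator_def,
    ← commutator_def, h, Subgroup.map_top_of_surjective _ (QuotientGroup.mk'_surjective K)] at this
  exact this.symm

/-- The theorem. -/
theorem structure_thm {u : G} (hu : u ≠ 1)
    (hyp : ∀ χ : Cfsg.IrrCharacter G, χ ≠ Cfsg.Agent.Lib.Characters.Basic.oneChar G →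
      (χ : G → ℂ) 1 - (χ : G → ℂ) u = 4 ∨ (χ : G → ℂ) u = 0) :
    IsMulCommutative ↥(Cfsg.oddCore G) ∧
      ((Nonempty (G ⧸ Cfsg.oddCore G ≃* Matrix.ProjectiveSpecialLinearGroup (Fin 2) (ZMod 5)) ∧
          orderOf u = 2) ∨
        (Nonempty (G ⧸ Cfsg.oddCore G ≃* Matrix.SpecialLinearGroup (Fin 2) (ZMod 5)) ∧
          orderOf u = 4)) := by
  classical
  haveI : Fact (Nat.Prime 2) := ⟨Nat.prime_two⟩
  haveI : Fact (Nat.Prime 5) := ⟨by norm_num⟩
  obtain ⟨K, hKn, huK, huuK, h60, hperf, hC, hfull, x, hx1, hxne, hxq, hcx, hcy, hxx, hCQ⟩ :=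
    quotient_data hu hyp
  haveI := hKn
  set q : G ⧸ K := (u : G ⧸ K) with hq
  set π := QuotientGroup.mk' K with hπ
  have hq1 : q ≠ 1 := fun h => huK ((QuotientGroup.eq_one_iff u).1 h)
  have hqq : q * q = 1 := by
    rw [hq, ← QuotientGroup.mk_mul]; exact (QuotientGroup.eq_one_iff _).2 huuK
  haveI : Nontrivial (G ⧸ K) := ⟨⟨q, 1, hq1⟩⟩
  obtain ⟨eQ⟩ := Spectrum.nonempty_equiv_a5_of_card_sixty h60
    (not_solvable_of_perfect (commutator_quotient hperf))
  haveI : IsSimpleGroup (G ⧸ K) := eQ.isSimpleGroup
  have hodd : (Nat.card (Cfsg.oddCore G)).Coprime 2 := Cores.pPrimeCore_coprime 2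
  -- the core lies in `K`
  have hOK : Cfsg.oddCore G ≤ K := by
    have hn : ((Cfsg.oddCore G).map π).Normal :=
      Subgroup.Normal.map inferInstance _ (QuotientGroup.mk'_surjective K)
    rcases hn.eq_bot_or_eq_top with hb | ht
    · intro g hg
      have : π g ∈ (⊥ : Subgroup (G ⧸ K)) := hb ▸ Subgroup.mem_map_of_mem π hg
      exact (QuotientGroup.eq_one_iff g).1 (Subgroup.mem_bot.1 this)
    · exfalso
      have h1 := (Cfsg.oddCore G).card_map_dvd π
      rw [ht, Subgroup.card_top, h60] at h1
      exact absurd (Nat.eq_one_of_dvd_coprimes hodd ((show 2 ∣ 60 by norm_num).trans h1) dvd_rfl)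
        (by norm_num)
  have hxq1 : x * q ≠ 1 := fun e => hxne (by
    calc x = x * q * q := by rw [mul_assoc, hqq, mul_one]
      _ = q := by rw [e, one_mul])
  have hfour : ∀ z : G ⧸ K, z * q = q * z → z = 1 ∨ z = q ∨ z = x ∨ z = x * q := by
    intro z hz
    by_contra hne
    simp only [not_or] at hne
    let f : Fin 5 → Subgroup.centralizer ({q} : Set (G ⧸ K)) :=
      ![⟨1, one_mem _⟩, ⟨q, Subgroup.mem_centralizer_singleton_iff.2 rfl⟩,
        ⟨x, Subgroup.mem_centralizer_singleton_iff.2 hxq⟩,
        ⟨x * q, Subgroup.mem_centralizer_singleton_iff.2 (by rw [← mul_assoc q, ← hxq])⟩,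
        ⟨z, Subgroup.mem_centralizer_singleton_iff.2 hz⟩]
    have hf : Function.Injective f := by
      intro i j hij
      have h := congrArg Subtype.val hij
      fin_cases i <;> fin_cases j <;> simp [f] at h ⊢ <;>
        first
        | exact hq1 h
        | exact hq1 h.symm
        | exact hx1 h
        | exact hx1 h.symm
        | exact hxne h
        | exact hxne h.symm
        | exact hxq1 h
        | exact hxq1 h.symm
        | exact hne.1 h
        | exact hne.1 h.symm
        | exact hne.2.1 h
        | exact hne.2.1 h.symm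
        | exact hne.2.2.1 h
        | exact hne.2.2.1 h.symm
        | exact hne.2.2.2 h
        | exact hne.2.2.2 h.symm
    have := Nat.card_le_card_of_injective f hf
    rw [Nat.card_fin, hCQ] at this
    omega
  have hlift : ∀ g : G, (π g = q ∨ π g = x ∨ π g = x * q) → IsConj u g := by
    rintro g (h | h | h) <;> apply hfull <;> show IsConj q (π g) <;> rw [h]
    exacts [hcx, hcy]
  by_cases h2 : u * u = 1
  · -- `u` an involution: `K` is trivial
    obtain ⟨v, hv⟩ := QuotientGroup.mk'_surjective K x
    have hsq : ∀ g : G, (π g = q ∨ π g = x ∨ π g = x * q) → g * g = 1 := by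
      intro g hg
      obtain ⟨c, rfl⟩ := isConj_iff.1 (hlift g hg)
      rw [show c * u * c⁻¹ * (c * u * c⁻¹) = c * (u * u) * c⁻¹ by group, h2]
      simp
    have hvv : v * v = 1 := hsq v (Or.inr (Or.inl hv))
    have hvu : v * u * (v * u) = 1 := hsq _ (Or.inr (Or.inr (by rw [map_mul, hv]; rfl)))
    have hinv : ∀ a : G, (π a = q ∨ π a = x ∨ π a = x * q) → ∀ k ∈ K, a * k * a⁻¹ = k⁻¹ := by
      intro a ha k hk
      have haa := hsq a ha
      have hak := hsq (a * k) (by
        rwa [map_mul, show π k = 1 from (QuotientGroup.eq_one_iff k).2 hk, mul_one])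
      rw [inv_eq_of_mul_eq_one_right haa]
      refine eq_inv_of_mul_eq_one_left ?_
      rw [← hak]; group
    have hKC : ∀ k ∈ K, k * u = u * k := by
      intro k hk
      have e1 : (v * u) * k * (v * u)⁻¹ = k⁻¹ :=
        hinv _ (Or.inr (Or.inr (by rw [map_mul, hv]; rfl))) k hk
      have e2 : v * k⁻¹ * v⁻¹ = k := by
        rw [← conj_inv, hinv v (Or.inr (Or.inl hv)) k hk, inv_inv]
      have e3 : (v * u) * k * (v * u)⁻¹ = k := by
        rw [show (v * u) * k * (v * u)⁻¹ = v * (u * k * u⁻¹) * v⁻¹ by group,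
          hinv u (Or.inl rfl) k hk, e2]
      have e4 : u * k * u⁻¹ = k := by rw [hinv u (Or.inl rfl) k hk, ← e1, e3]
      calc k * u = u * k * u⁻¹ * u := by rw [e4]
        _ = u * k := by group
    have hvc : v * u = u * v := by
      have a1 : v⁻¹ = v := inv_eq_of_mul_eq_one_right hvv
      have a2 : u⁻¹ = u := inv_eq_of_mul_eq_one_right h2
      have a3 := inv_eq_of_mul_eq_one_right hvu
      rwa [mul_inv_rev, a1, a2, eq_comm] at a3
    have hKbot : K = ⊥ := by
      set C := Subgroup.centralizer ({u} : Set G) with hCdef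
      have hr : (π.comp C.subtype).range = Subgroup.centralizer ({q} : Set (G ⧸ K)) := by
        apply le_antisymm
        · rintro _ ⟨c, rfl⟩
          rw [Subgroup.mem_centralizer_singleton_iff]
          show π c * π u = π u * π c
          rw [← map_mul, ← map_mul, Subgroup.mem_centralizer_singleton_iff.1 c.2]
        · intro z hz
          have huC : u ∈ C := Subgroup.mem_centralizer_singleton_iff.2 rfl
          have hvC : v ∈ C := Subgroup.mem_centralizer_singleton_iff.2 hvc
          rcases hfour z (Subgroup.mem_centralizer_singleton_iff.1 hz) with rfl | rfl | rfl | rfl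
          · exact one_mem _
          · exact ⟨⟨u, huC⟩, rfl⟩
          · exact ⟨⟨v, hvC⟩, hv⟩
          · exact mul_mem ⟨⟨v, hvC⟩, hv⟩ ⟨⟨u, huC⟩, rfl⟩
      have h := Subgroup.card_mul_index (π.comp C.subtype).ker
      rw [Subgroup.index_ker, hr, hCQ, hC] at h
      have h1 : Nat.card (π.comp C.subtype).ker = 1 := by omega
      rw [eq_bot_iff]
      intro k hk
      have hmem : (⟨k, Subgroup.mem_centralizer_singleton_iff.2 (hKC k hk)⟩ : C) ∈
          (π.comp C.subtype).ker := (QuotientGroup.eq_one_iff k).2 hk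
      rw [Subgroup.card_eq_one.1 h1, Subgroup.mem_bot] at hmem
      exact Subgroup.mem_bot.2 (congrArg Subtype.val hmem)
    have hO : Cfsg.oddCore G = ⊥ := le_bot_iff.1 (hKbot ▸ hOK)
    refine ⟨?_, Or.inl ⟨?_, ?_⟩⟩
    · rw [hO]; infer_instance
    · obtain ⟨e5⟩ := Linear.SmallIso.nonempty_psl_two_five (F := ZMod 5) (ZMod.card 5)
      exact ⟨(QuotientGroup.quotientMulEquivOfEq (hO.trans hKbot.symm)).trans (eQ.trans e5.symm)⟩
    · exact orderOf_eq_prime (by rw [sq]; exact h2) hu
  · -- `u` of order four
    have hu4 : orderOf u = 4 := by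
      refine orderOf_eq_prime_pow (p := 2) (n := 1) (by rw [pow_one, sq]; exact h2) ?_
      have h := pow_card_eq_one'
        (x := (⟨u, Subgroup.mem_centralizer_singleton_iff.2 rfl⟩ :
          Subgroup.centralizer ({u} : Set G)))
      rw [hC] at h
      simpa using congrArg Subtype.val h
    -- centralizers of the lifts
    have hCv : ∀ a : G, (π a = q ∨ π a = x ∨ π a = x * q) →
        orderOf a = 4 ∧ ∀ c : G, c * a = a * c → c ∈ Subgroup.zpowers a := by
      intro a ha
      have h4 : orderOf a = 4 := (orderOf_of_isConj (hlift a ha)).trans hu4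
      refine ⟨h4, fun c hc => ?_⟩
      have he : Subgroup.zpowers a = Subgroup.centralizer ({a} : Set G) := by
        refine Subgroup.eq_of_le_of_card_ge ?_ ?_
        · rw [Subgroup.zpowers_le, Subgroup.mem_centralizer_singleton_iff]
        · rw [← centralizer_card_of_isConj (hlift a ha), hC, Nat.card_zpowers, h4]
      rw [he, Subgroup.mem_centralizer_singleton_iff]
      exact hc
    -- elements of `K` centralising a lift
    have hCK : ∀ a : G, (π a = q ∨ π a = x ∨ π a = x * q) → ∀ c ∈ K, c * a = a * c →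
        c = 1 ∨ c = a * a := by
      intro a ha c hcK hc
      obtain ⟨h4, hmem⟩ := hCv a ha
      obtain ⟨k, hk, rfl⟩ := Finset.mem_image.1 ((mem_zpowers_iff_mem_range_orderOf).1 (hmem c hc))
      rw [Finset.mem_range, h4] at hk
      have hne : π a ≠ 1 := by
        rcases ha with e | e | e <;> rw [e]
        · exact hq1
        · exact hx1
        · exact fun e' => hxne (by
            calc x = x * q * q := by rw [mul_assoc, hqq, mul_one]
              _ = q := by rw [e', one_mul])
      have haa : π a * π a = 1 := by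
        rcases ha with e | e | e <;> rw [e]
        · exact hqq
        · exact hxx
        · rw [mul_assoc, ← mul_assoc q, ← hxq, mul_assoc, hqq, mul_one, hxx]
      have hk1 : π (a ^ k) = 1 := (QuotientGroup.eq_one_iff _).2 hcK
      rw [map_pow] at hk1
      interval_cases k
      · left; simp
      · exact absurd (by simpa using hk1) hne
      · right; exact sq a
      · rw [pow_succ, pow_two, haa, one_mul] at hk1
        exact absurd hk1 hne
    -- a Sylow subgroup containing `u`
    have hup : IsPGroup 2 (Subgroup.zpowers u) :=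
      IsPGroup.of_card (n := 2) (by rw [Nat.card_zpowers, hu4]; norm_num)
    obtain ⟨P, hP⟩ := hup.exists_le_sylow
    have huP : u ∈ (P : Subgroup G) := hP (Subgroup.mem_zpowers u)
    set Pb := (P : Subgroup G).map π with hPb
    have hPb4 : Nat.card Pb = 4 := by
      have h := Sylow.card_eq_multiplicity (P.mapSurjective (QuotientGroup.mk'_surjective K))
      rw [h60] at h
      rw [hPb, hπ, ← Sylow.coe_mapSurjective (QuotientGroup.mk'_surjective K) P]
      refine h.trans ?_
      norm_num [Nat.factorization_def]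
      decide +kernel
    have hPbC : Pb = Subgroup.centralizer ({q} : Set (G ⧸ K)) := by
      haveI : IsMulCommutative Pb :=
        IsPGroup.isMulCommutative_of_card_eq_prime_sq (p := 2) (by rw [hPb4]; norm_num)
      refine Subgroup.eq_of_le_of_card_ge (fun z hz => ?_) (by rw [hPb4, hCQ])
      rw [Subgroup.mem_centralizer_singleton_iff]
      exact congrArg Subtype.val
        ((IsMulCommutative.is_comm (M := Pb)).comm ⟨z, hz⟩ ⟨q, ⟨u, huP, rfl⟩⟩)
    obtain ⟨v, hvP, hv⟩ : ∃ v ∈ (P : Subgroup G), π v = x := by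
      have : x ∈ Pb := by rw [hPbC, Subgroup.mem_centralizer_singleton_iff]; exact hxq
      exact Subgroup.mem_map.1 this
    -- `z = u²` is central in `P`
    set z := u * u with hz
    have hzP : z ∈ (P : Subgroup G) := mul_mem huP huP
    set T := K.subgroupOf (P : Subgroup G) with hT
    have hTne : T ≠ ⊥ := by
      intro h
      have hm : (⟨z, hzP⟩ : (P : Subgroup G)) ∈ T := huuK
      rw [h, Subgroup.mem_bot] at hm
      exact h2 (congrArg Subtype.val hm)
    obtain ⟨t0, ht01⟩ := Subgroup.ne_bot_iff_exists_ne_one.1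
      (PGroups.normal_inf_center_ne_bot P.2 T hTne)
    have ht0 := t0.2
    have ht0z : ((t0 : (P : Subgroup G)) : G) = z := by
      have hc := congrArg Subtype.val ((Subgroup.mem_center_iff.1 ht0.2) ⟨u, huP⟩)
      refine (hCK u (Or.inl rfl) _ ht0.1 hc.symm).resolve_left fun e => ?_
      exact ht01 (Subtype.ext (Subtype.ext e))
    have hzc : ∀ a ∈ (P : Subgroup G), z * a = a * z := fun a ha => by
      have hc := congrArg Subtype.val ((Subgroup.mem_center_iff.1 ht0.2) ⟨a, ha⟩)
      rw [← ht0z]; exact hc.symm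
    have hsqz : ∀ a ∈ (P : Subgroup G), (π a = q ∨ π a = x ∨ π a = x * q) → a * a = z :=
      fun a ha h => ((hCK a h z huuK (hzc a ha)).resolve_left h2).symm
    have hTinv : ∀ a ∈ (P : Subgroup G), (π a = q ∨ π a = x ∨ π a = x * q) →
        ∀ t ∈ (P : Subgroup G), t ∈ K → a⁻¹ * t * a = t⁻¹ := by
      intro a ha hπa t ht htK
      have e1 := hsqz (a * t) (mul_mem ha ht)
        (by rwa [map_mul, show π t = 1 from (QuotientGroup.eq_one_iff t).2 htK, mul_one])
      rw [← hsqz a ha hπa] at e1
      have e2 : t * a * t = a := mul_left_cancel (a := a) (by rw [← e1]; group)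
      refine eq_inv_of_mul_eq_one_left ?_
      calc a⁻¹ * t * a * t = a⁻¹ * (t * a * t) := by group
        _ = 1 := by rw [e2, inv_mul_cancel]
    have hTz : ∀ t ∈ (P : Subgroup G), t ∈ K → t = 1 ∨ t = z := by
      intro t ht htK
      have e3 := hTinv (v * u) (mul_mem hvP huP) (Or.inr (Or.inr (by rw [map_mul, hv]; rfl))) t ht htK
      have e4 : u⁻¹ * t⁻¹ * u = t⁻¹ := by
        calc u⁻¹ * t⁻¹ * u = u⁻¹ * (v⁻¹ * t * v) * u := by
              rw [hTinv v hvP (Or.inr (Or.inl hv)) t ht htK]
          _ = (v * u)⁻¹ * t * (v * u) := by group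
          _ = t⁻¹ := e3
      have e5 : u⁻¹ * t⁻¹ * u = t := by
        rw [show u⁻¹ * t⁻¹ * u = (u⁻¹ * t * u)⁻¹ by group,
          hTinv u huP (Or.inl rfl) t ht htK, inv_inv]
      have e6 : t⁻¹ = t := e4.symm.trans e5
      refine hCK u (Or.inl rfl) t htK ?_
      rw [e6] at e5
      calc t * u = u * (u⁻¹ * t * u) := by group
        _ = u * t := by rw [e5]
    have hker2 : Nat.card T = 2 := by
      rw [Nat.card_eq_two_iff' (1 : T)]
      refine ⟨⟨⟨z, hzP⟩, huuK⟩, fun e => h2 (congrArg (fun s : T => ((s : (P : Subgroup G)) : G)) e),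
        fun s hs => ?_⟩
      rcases hTz _ (s : (P : Subgroup G)).2 s.2 with e | e
      · exact absurd (Subtype.ext (Subtype.ext e)) hs
      · exact Subtype.ext (Subtype.ext e)
    have hP8 : Nat.card (P : Subgroup G) = 8 := by
      have h := Subgroup.card_mul_index T
      rw [hker2, hT, show K.subgroupOf (P : Subgroup G) = (π.comp (P : Subgroup G).subtype).ker from
        by ext; simp [Subgroup.mem_subgroupOf, π], Subgroup.index_ker, MonoidHom.range_comp,
        Subgroup.range_subtype, ← hPb, hPb4] at h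
      omega
    obtain ⟨e8⟩ : Nonempty ((P : Subgroup G) ≃* QuaternionGroup 2) := by
      refine TwoGroups.Recognition.nonempty_quaternion_subgroup (m := 2) huP hvP hu4
        (by rw [hsqz v hvP (Or.inr (Or.inl hv)), sq]) ?_ ?_ hP8
      · have e1 := hsqz (v * u) (mul_mem hvP huP) (Or.inr (Or.inr (by rw [map_mul, hv]; rfl)))
        have e2 := hsqz v hvP (Or.inr (Or.inl hv))
        have e3 : u * v * u = v := mul_left_cancel (a := v) (by rw [e2, ← e1]; group)
        refine eq_inv_of_mul_eq_one_left (mul_left_cancel (a := u) ?_)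
        calc u * (v * u * v⁻¹ * u) = (u * v * u) * v⁻¹ * u := by group
          _ = u * 1 := by rw [e3, mul_inv_cancel, one_mul, mul_one]
      · intro hmem
        obtain ⟨k, rfl⟩ := Subgroup.mem_zpowers_iff.1 hmem
        rw [map_zpow] at hv
        have hq2 : q ^ (2 : ℤ) = 1 := by rw [zpow_two]; exact hqq
        rcases Int.emod_two_eq_zero_or_one k with h | h
        · exact hx1 (by
            rw [← hv, show k = 2 * (k / 2) by omega, zpow_mul, show π u = q from rfl, hq2, one_zpow])
        · exact hxne (by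
            rw [← hv, show k = 2 * (k / 2) + 1 by omega, zpow_add, zpow_mul,
              show π u = q from rfl, hq2, one_zpow, one_mul, zpow_one])
    -- the odd core has index two in `K`
    have hKO : Nat.card K = 2 * Nat.card (Cfsg.oddCore G) := by
      have hGK := Subgroup.card_mul_index K
      rw [Subgroup.index_eq_card, h60] at hGK
      have hGP := Subgroup.card_mul_index (P : Subgroup G)
      rw [hP8] at hGP
      have hPi : ¬ 2 ∣ (P : Subgroup G).index := P.not_dvd_index
      have h4 : Nat.card K % 4 = 2 := by omega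
      obtain ⟨H, hH⟩ := Involutions.IndexTwo.exists_index_two_of_mod_four (G := K) h4
      haveI := Subgroup.normal_of_index_eq_two hH
      have hHc := Subgroup.card_mul_index H
      rw [hH] at hHc
      have hHodd : ¬ 2 ∣ Nat.card H := by omega
      have hmemH : ∀ k : K, k ∈ H ↔ Odd (orderOf k) := by
        intro k
        constructor
        · intro hk
          exact Nat.odd_iff.2 (Nat.two_dvd_ne_zero.1 fun h =>
            hHodd (h.trans (Subgroup.orderOf_dvd_natCard H hk)))
        · intro hk
          by_contra hkH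
          have h1 : (QuotientGroup.mk' H k) ^ 2 = 1 := by
            rw [← map_pow]
            exact (QuotientGroup.eq_one_iff _).2 (Subgroup.sq_mem_of_index_two hH k)
          have h2' : orderOf (QuotientGroup.mk' H k) ∣ orderOf k := orderOf_map_dvd _ k
          have h3 := Nat.eq_one_of_dvd_coprimes (Nat.coprime_two_right.2 hk) h2'
            (orderOf_dvd_of_pow_eq_one h1)
          rw [orderOf_eq_one_iff] at h3
          exact hkH ((QuotientGroup.eq_one_iff k).1 h3)
      haveI : (H.map K.subtype).Normal := by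
        refine ⟨?_⟩
        rintro _ ⟨k, hk, rfl⟩ g
        refine ⟨⟨g * k * g⁻¹, hKn.conj_mem _ k.2 g⟩, ?_, rfl⟩
        rw [SetLike.mem_coe] at hk ⊢
        rw [hmemH] at hk ⊢
        rw [← Subgroup.orderOf_coe]
        show Odd (orderOf (MulAut.conj g (k : G)))
        rwa [MulEquiv.orderOf_eq, Subgroup.orderOf_coe]
      have hle : H.map K.subtype ≤ Cfsg.oddCore G := by
        refine Cores.le_pPrimeCore ?_
        rw [Subgroup.card_map_of_injective (K.subtype_injective)]
        exact Nat.coprime_two_right.2 (Nat.odd_iff.2 (by omega))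
      have hge : Cfsg.oddCore G ≤ H.map K.subtype := by
        intro g hg
        refine ⟨⟨g, hOK hg⟩, ?_, rfl⟩
        rw [SetLike.mem_coe, hmemH, ← Subgroup.orderOf_coe]
        exact Nat.coprime_two_right.1
          (hodd.coprime_dvd_left (Subgroup.orderOf_dvd_natCard _ hg))
      rw [le_antisymm hge hle, Subgroup.card_map_of_injective (K.subtype_injective)]
      omega
    have h120 : Nat.card (G ⧸ Cfsg.oddCore G) = 120 := by
      have h1 := Subgroup.card_mul_index (Cfsg.oddCore G)
      have h2' := Subgroup.card_mul_index K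
      rw [Subgroup.index_eq_card] at h1 h2'
      rw [h60, hKO, ← h1] at h2'
      have hpos : 0 < Nat.card (Cfsg.oddCore G) := Nat.card_pos
      nlinarith
    have hns : ¬ Group.IsSolvable (G ⧸ Cfsg.oddCore G) := by
      haveI : Nontrivial (G ⧸ Cfsg.oddCore G) := Finite.one_lt_card_iff_nontrivial.1 (by omega)
      exact not_solvable_of_perfect (commutator_quotient hperf)
    have hQ8 : ∀ R : Sylow 2 (G ⧸ Cfsg.oddCore G),
        Nonempty ((R : Subgroup (G ⧸ Cfsg.oddCore G)) ≃* QuaternionGroup 2) := by
      intro R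
      set ρ := QuotientGroup.mk' (Cfsg.oddCore G) with hρ
      let R₀ := P.mapSurjective (f := ρ) (QuotientGroup.mk'_surjective _)
      have hinj : Function.Injective (ρ.comp (P : Subgroup G).subtype) := by
        rw [injective_iff_map_eq_one]
        intro p hp
        have hpO : (p : G) ∈ Cfsg.oddCore G := (QuotientGroup.eq_one_iff _).1 hp
        have h8 : orderOf (p : G) ∣ 8 := by
          rw [Subgroup.orderOf_coe, ← hP8]; exact orderOf_dvd_natCard p
        have hco : (Nat.card (Cfsg.oddCore G)).Coprime 8 := by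
          rw [show (8 : ℕ) = 2 ^ 3 by norm_num]; exact hodd.pow_right 3
        exact Subtype.ext (orderOf_eq_one_iff.1 (Nat.eq_one_of_dvd_coprimes hco
          (Subgroup.orderOf_dvd_natCard _ hpO) h8))
      have e0 : (P : Subgroup G) ≃* (R₀ : Subgroup (G ⧸ Cfsg.oddCore G)) :=
        (MonoidHom.ofInjective hinj).trans (MulEquiv.subgroupCongr (by
          rw [MonoidHom.range_comp, Subgroup.range_subtype]; rfl))
      exact ⟨(R.equiv R₀).trans (e0.symm.trans e8)⟩
    -- `O(G)` is inverted by `z`
    set O := Cfsg.oddCore G with hOdef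
    have hOn : ∀ a : G, ∀ d ∈ O, a * d * a⁻¹ ∈ O := fun a d hd =>
      (inferInstance : O.Normal).conj_mem d hd a
    have hzfix : ∀ d ∈ O, z * d * z⁻¹ = d → d = 1 := by
      set D := O ⊓ Subgroup.centralizer ({z} : Set G) with hD
      have hpair : ∀ a ∈ (P : Subgroup G), (π a = q ∨ π a = x ∨ π a = x * q) →
          ∀ d ∈ D, a * d * a⁻¹ = d⁻¹ := by
        intro a ha hπa
        refine (inverts_of_fpf (H := D) (a := a) (fun d hd => ?_) (fun d hd => ?_) (fun d hd e => ?_)).1
        · refine ⟨hOn a d hd.1, ?_⟩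
          have hdz := Subgroup.mem_centralizer_singleton_iff.1 hd.2
          rw [Subgroup.coe_toSubmonoid, SetLike.mem_coe, Subgroup.mem_centralizer_singleton_iff]
          calc a * d * a⁻¹ * z = a * d * (z * a⁻¹) := by
                rw [mul_assoc (a * d), hzc a⁻¹ (inv_mem ha)]
            _ = a * (d * z) * a⁻¹ := by group
            _ = a * (z * d) * a⁻¹ := by rw [hdz]
            _ = (a * z) * d * a⁻¹ := by group
            _ = z * (a * d * a⁻¹) := by rw [← hzc a ha]; group
        · calc a * (a * d * a⁻¹) * a⁻¹ = (a * a) * d * (a * a)⁻¹ := by group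
            _ = d := by
              rw [hsqz a ha hπa, ← Subgroup.mem_centralizer_singleton_iff.1 hd.2, mul_inv_cancel_right]
        · have hcomm : d * a = a * d := by
            calc d * a = (a * d * a⁻¹) * a := by rw [e]
              _ = a * d := by group
          rcases hCK a hπa d (hOK hd.1) hcomm with h | h
          · exact h
          · exfalso
            rw [hsqz a ha hπa] at h
            exact h2 (eq_one_of_mul_self_of_odd hodd (h ▸ hd.1) (by
              rw [hz, mul_assoc, ← mul_assoc u u u]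
              have := pow_orderOf_eq_one u
              rw [hu4] at this
              simpa [pow_succ, mul_assoc] using this))
      intro d hd hdz
      have hdD : d ∈ D := ⟨hd, Subgroup.mem_centralizer_singleton_iff.2 (by
        calc d * z = (z * d * z⁻¹) * z := by rw [hdz]
          _ = z * d := by group)⟩
      have e1 := hpair u huP (Or.inl rfl) d hdD
      have e2 := hpair v hvP (Or.inr (Or.inl hv)) _ (inv_mem hdD)
      have e3 := hpair (v * u) (mul_mem hvP huP) (Or.inr (Or.inr (by rw [map_mul, hv]; rfl))) d hdD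
      rw [inv_inv] at e2
      have e4 : d = d⁻¹ := by
        rw [← e3]
        conv_lhs => rw [← e2, ← e1]
        group
      refine eq_one_of_mul_self_of_odd hodd hd ?_
      conv_lhs => arg 2; rw [e4]
      exact mul_inv_cancel d
    refine ⟨?_, Or.inr ⟨Spectrum.nonempty_equiv_sl25 h120 hns hQ8, hu4⟩⟩
    have hcomm := (inverts_of_fpf (H := O) (a := z) (fun d hd => hOn z d hd) (fun d hd => by
      have hz4 : z * z = 1 := by
        have := pow_orderOf_eq_one u
        rw [hu4] at this
        simpa [hz, pow_succ, mul_assoc] using this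
      rw [show z * (z * d * z⁻¹) * z⁻¹ = (z * z) * d * (z * z)⁻¹ by group, hz4]
      simp) hzfix).2
    exact ⟨⟨fun a b => Subtype.ext (hcomm a a.2 b b.2)⟩⟩

end Cfsg.Agent.Lib.FourMinus
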