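import Cfsg.Agent.Lib.FourMinus.Values

/-!
# Three-dimensional characters non-zero at `u`: there are exactly two, both real
-/

set_option autoImplicit false
set_option linter.unusedSectionVars false

namespace Cfsg.Agent.Lib.FourMinus

open Cfsg.Agent.Lib.Induced.Basic Cfsg.Agent.Lib.Characters
open Cfsg.Agent.Lib.Characters.Basic
open Cfsg.Agent.Lib.Characters.Linear (conjChar conjChar_apply)
open scoped ComplexConjugate

universe u

variable {G : Type u} [Group G] [Fintype G] [Fintype (Cfsg.IrrCharacter G)]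

/-- Pointwise complex conjugate. -/
noncomputable def bar (φ : G → ℂ) : G → ℂ := fun g => conj (φ g)

/-- Degree three and value `-1` at `u`. -/
def IsThree (u : G) (χ : Cfsg.IrrCharacter G) : Prop := dg χ = 3 ∧ vl u χ = -1

theorem IsThree.ne_one {u : G} {χ : Cfsg.IrrCharacter G} (h : IsThree u χ) : χ ≠ oneChar G :=
  fun e => by have := h.1; rw [e, dg_oneChar] at this; omega

theorem ne_of_dg {a b : Cfsg.IrrCharacter G} (h : dg a ≠ dg b) : a ≠ b := fun e => h (e ▸ rfl)

theorem dg_conjChar (χ : Cfsg.IrrCharacter G) : dg (conjChar χ) = dg χ := by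
  simp [dg, conjChar_apply]

theorem mult_of_inner {φ : G → ℂ} (hφ : Cfsg.IsCharacter G φ) {χ : Cfsg.IrrCharacter G} {k : ℕ}
    (h : Cfsg.classInner φ (χ : G → ℂ) = k) : mult φ χ = k := by
  rw [mult_spec hφ] at h
  exact_mod_cast h

variable {u : G} (hyp : Hyp u)
include hyp

theorem three_facts {χ : Cfsg.IrrCharacter G} (hχ : IsThree u χ) :
    (∀ g, (χ : G → ℂ) g * (χ : G → ℂ) g - (χ : G → ℂ) (g * g) = 2 * conj ((χ : G → ℂ) g)) ∧
      Cfsg.classInner ((χ : G → ℂ) * (χ : G → ℂ)) (bar (χ : G → ℂ)) ≠ 0 := by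
  obtain ⟨n, ρ, hρ, hc⟩ := exists_rep χ
  have hn : n = 3 := by
    have h1 := apply_one χ
    rw [← hc, Representation.char_one, hχ.1, Module.finrank_fintype_fun_eq_card,
      Fintype.card_fin] at h1
    exact_mod_cast h1
  subst hn
  obtain ⟨M, hM⟩ := Indicator.exists_matrix_hom ρ
  have hdet : ∀ g, (M g).det = 1 := by
    intro g
    let f : G →* ℂ := Matrix.detMonoidHom.comp M
    have hg : g ∈ commutator G := by rw [commutator_eq_top hyp]; trivial
    have := Abelianization.commutator_subset_ker f.toHomUnits hg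
    simpa [f] using congrArg Units.val (MonoidHom.mem_ker.mp this)
  exact three_dim M hdet (isCharacter_irr χ) fun g => by rw [← hc, hM]

/-- `χ² = conj χ + r`. -/
theorem sq_decomp {χ : Cfsg.IrrCharacter G} (hχ : IsThree u χ) :
    ∃ r : G → ℂ, Cfsg.IsCharacter G r ∧
      (χ : G → ℂ) * (χ : G → ℂ) = (conjChar χ : G → ℂ) + r ∧ r 1 = ((6 : ℤ) : ℂ) ∧
      r u = ((2 : ℤ) : ℂ) ∧
      Cfsg.classInner r (oneChar G : G → ℂ) =
        Cfsg.classInner (χ : G → ℂ) (conjChar χ : G → ℂ) := by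
  classical
  have hp := isCharacter_mul (isCharacter_irr χ) (isCharacter_irr χ)
  obtain ⟨m, r, hr, hm, -, he⟩ := Cfsg.Agent.Lib.Clifford.Basic.exists_eq_nsmul_add hp (conjChar χ)
  have hm0 : m ≠ 0 := fun h0 => (three_facts hyp hχ).2 (by
    rw [h0, Nat.cast_zero] at hm; exact hm)
  have e1 := congrFun he 1
  have eu := congrFun he u
  simp only [Pi.mul_apply, Pi.add_apply, Pi.smul_apply, conjChar_apply] at e1 eu
  rw [nsmul_eq_mul] at e1 eu
  simp only [apply_one, apply_u hyp, hχ.1, hχ.2, map_intCast] at e1 eu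
  have hone : Cfsg.classInner r (oneChar G : G → ℂ) =
      Cfsg.classInner (χ : G → ℂ) (conjChar χ : G → ℂ) := by
    have hne : conjChar χ ≠ oneChar G := ne_of_dg (by rw [dg_conjChar, hχ.1, dg_oneChar]; omega)
    have h := congrArg (fun φ : G → ℂ => Cfsg.classInner φ (oneChar G : G → ℂ)) he
    simp only [classInner_add_left, Cfsg.Agent.Lib.Clifford.Basic.classInner_nsmul_left,
      classInner_irr_of_ne hne, mul_zero, zero_add] at h
    rw [← h]
    simp [Cfsg.classInner, oneChar_apply, conjChar_apply]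
  have h1 : mult r (oneChar G) ≤ 1 := by
    rw [mult_spec hr, classInner_irr] at hone
    split_ifs at hone
    · exact (show mult r (oneChar G) = 1 by exact_mod_cast hone).le
    · exact (show mult r (oneChar G) = 0 by exact_mod_cast hone).le.trans (Nat.zero_le 1)
  have hr1 : r 1 = ((9 - 3 * (m : ℤ) : ℤ) : ℂ) := by push_cast at e1 ⊢; linear_combination -e1
  have hru : r u = ((1 + (m : ℤ) : ℤ) : ℂ) := by push_cast at eu ⊢; linear_combination -eu
  have hm1 : m = 1 := by
    by_contra hne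
    have := val_le_mult_one hyp hr hr1 hru (by omega)
    omega
  subst hm1
  exact ⟨r, hr, by rw [he, one_nsmul], by rw [hr1]; rfl, by rw [hru]; rfl, hone⟩

theorem nonreal_decomp {χ : Cfsg.IrrCharacter G} (hχ : IsThree u χ) (hr : conjChar χ ≠ χ) :
    ∃ σ θ : Cfsg.IrrCharacter G, dg σ = 6 ∧ vl u σ = 2 ∧ dg θ = 8 ∧
      (χ : G → ℂ) * bar (χ : G → ℂ) = (oneChar G : G → ℂ) + (θ : G → ℂ) := by
  classical
  obtain ⟨r, hrc, hsq, hr1, hru, hone⟩ := sq_decomp hyp hχ
  rw [classInner_irr_of_ne hr.symm] at hone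
  obtain ⟨σ, rfl, hσ, hσd, hσv, -⟩ := eq_irr_of_pos hyp hrc
    (mult_of_inner hrc (by rw [hone]; simp)) hr1 hru (le_refl _) (by omega)
  have hp : Cfsg.IsCharacter G ((χ : G → ℂ) * bar (χ : G → ℂ)) :=
    isCharacter_mul (isCharacter_irr χ) (isCharacter_conj (isCharacter_irr χ))
  obtain ⟨m, t, ht, hm, ht0, he⟩ :=
    Cfsg.Agent.Lib.Clifford.Basic.exists_eq_nsmul_add hp (oneChar G)
  have hm1 : m = 1 := by
    have : Cfsg.classInner ((χ : G → ℂ) * bar (χ : G → ℂ)) (oneChar G : G → ℂ) =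
        Cfsg.classInner (χ : G → ℂ) χ := by
      simp [Cfsg.classInner, oneChar_apply, bar]
    rw [this, classInner_self_irr] at hm
    exact_mod_cast hm.symm
  subst hm1
  rw [one_nsmul] at he
  have hnorm : Cfsg.classInner ((χ : G → ℂ) * bar (χ : G → ℂ)) ((χ : G → ℂ) * bar (χ : G → ℂ)) =
      Cfsg.classInner ((χ : G → ℂ) * (χ : G → ℂ)) ((χ : G → ℂ) * (χ : G → ℂ)) := by
    simp only [Cfsg.classInner, bar, Pi.mul_apply, map_mul, Complex.conj_conj]
    congr 1
    exact Finset.sum_congr rfl fun g _ => by ring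
  have hne : conjChar χ ≠ σ := ne_of_dg (by rw [dg_conjChar, hχ.1, hσd]; omega)
  have h01 : Cfsg.classInner (oneChar G : G → ℂ) t = 0 := by
    rw [← classInner_conj_symm, ht0, map_zero]
  rw [he, hsq] at hnorm
  simp only [classInner_add_left, classInner_add_right, classInner_self_irr, ht0, h01,
    classInner_irr_of_ne hne, classInner_irr_of_ne hne.symm] at hnorm
  have hti : Cfsg.IsIrrCharacter G t :=
    isIrrCharacter_of_classInner_self ht (by linear_combination hnorm)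
  refine ⟨σ, ⟨t, hti⟩, hσd, hσv, ?_, he⟩
  have e1 := congrFun he 1
  simp only [Pi.mul_apply, bar, Pi.add_apply, oneChar_apply, apply_one, hχ.1, map_intCast] at e1
  rw [show t 1 = (((⟨t, hti⟩ : Cfsg.IrrCharacter G) : G → ℂ) 1) from rfl, apply_one] at e1
  have : ((dg (⟨t, hti⟩ : Cfsg.IrrCharacter G) : ℤ) : ℂ) = ((8 : ℤ) : ℂ) := by
    push_cast at e1 ⊢
    linear_combination -e1
  exact_mod_cast this

theorem real_decomp {χ : Cfsg.IrrCharacter G} (hχ : IsThree u χ) (hr : conjChar χ = χ) :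
    ∃ ψ : Cfsg.IrrCharacter G, dg ψ = 5 ∧ vl u ψ = 1 ∧
      (χ : G → ℂ) * (χ : G → ℂ) = (oneChar G : G → ℂ) + (χ : G → ℂ) + (ψ : G → ℂ) := by
  obtain ⟨r, hrc, hsq, hr1, hru, hone⟩ := sq_decomp hyp hχ
  rw [hr] at hsq
  rw [hr, classInner_self_irr] at hone
  obtain ⟨m, r', hr', hm, hr0, he⟩ :=
    Cfsg.Agent.Lib.Clifford.Basic.exists_eq_nsmul_add hrc (oneChar G)
  have hm1 : m = 1 := by rw [hone] at hm; exact_mod_cast hm.symm
  subst hm1
  rw [one_nsmul] at he
  have e1 := congrFun he 1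
  have eu := congrFun he u
  simp only [Pi.add_apply, oneChar_apply, hr1, hru] at e1 eu
  have h1 : r' 1 = ((5 : ℤ) : ℂ) := by push_cast at e1 ⊢; linear_combination -e1
  have h2 : r' u = ((1 : ℤ) : ℂ) := by push_cast at eu ⊢; linear_combination -eu
  obtain ⟨ψ, rfl, -, hψd, hψv, -⟩ := eq_irr_of_pos hyp hr'
    (mult_of_inner hr' (by rw [hr0]; simp)) h1 h2 (by omega) (by omega)
  exact ⟨ψ, hψd, hψv, by rw [hsq, he]; abel⟩

/-- The product `a · conj b`. -/
theorem cross {a b : Cfsg.IrrCharacter G} (ha : IsThree u a) (hb : IsThree u b) (hne : a ≠ b) :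
    Cfsg.IsCharacter G ((a : G → ℂ) * bar (b : G → ℂ)) ∧
    mult ((a : G → ℂ) * bar (b : G → ℂ)) (oneChar G) = 0 ∧
    ((a : G → ℂ) * bar (b : G → ℂ)) 1 = 9 ∧ ((a : G → ℂ) * bar (b : G → ℂ)) u = 1 ∧
    Cfsg.classInner ((a : G → ℂ) * bar (b : G → ℂ)) ((a : G → ℂ) * bar (b : G → ℂ)) =
      Cfsg.classInner ((a : G → ℂ) * bar (a : G → ℂ)) ((b : G → ℂ) * bar (b : G → ℂ)) ∧
    Cfsg.classInner ((a : G → ℂ) * bar (b : G → ℂ)) ((a : G → ℂ) * bar (b : G → ℂ)) ≠ 1 := by
  have hp : Cfsg.IsCharacter G ((a : G → ℂ) * bar (b : G → ℂ)) :=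
    isCharacter_mul (isCharacter_irr a) (isCharacter_conj (isCharacter_irr b))
  have h1 : ((a : G → ℂ) * bar (b : G → ℂ)) 1 = 9 := by
    simp only [Pi.mul_apply, bar, apply_one, ha.1, hb.1, map_intCast]; norm_num
  have hu : ((a : G → ℂ) * bar (b : G → ℂ)) u = 1 := by
    simp only [Pi.mul_apply, bar, apply_u hyp, ha.2, hb.2, map_intCast]; norm_num
  refine ⟨hp, mult_of_inner hp ?_, h1, hu, ?_, fun hn => ?_⟩
  · rw [Nat.cast_zero, ← classInner_irr_of_ne hne]
    simp [Cfsg.classInner, oneChar_apply, bar]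
  · simp only [Cfsg.classInner, bar, Pi.mul_apply, map_mul, Complex.conj_conj]
    congr 1
    exact Finset.sum_congr rfl fun g _ => by ring
  · set c : Cfsg.IrrCharacter G := ⟨_, isIrrCharacter_of_classInner_self hp hn⟩ with hc
    have hd : ((dg c : ℤ) : ℂ) = ((9 : ℤ) : ℂ) := by rw [← apply_one]; push_cast; exact h1
    have hv : ((vl u c : ℤ) : ℂ) = ((1 : ℤ) : ℂ) := by rw [← apply_u hyp]; push_cast; exact hu
    exact not_nine (u := u) (show dg c = 9 by exact_mod_cast hd) (by exact_mod_cast hv)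

/-- A real and a non-real one do not both occur. -/
theorem not_mixed {a b : Cfsg.IrrCharacter G} (ha : IsThree u a) (hb : IsThree u b)
    (har : conjChar a = a) (hbr : conjChar b ≠ b) : False := by
  obtain ⟨ψ, hψd, -, hsq⟩ := real_decomp hyp ha har
  obtain ⟨σ, θ, -, -, hθd, hbb⟩ := nonreal_decomp hyp hb hbr
  obtain ⟨-, -, -, -, h5, h6⟩ := cross hyp ha hb fun e => hbr (e ▸ har)
  have haa : (a : G → ℂ) * bar (a : G → ℂ) = (a : G → ℂ) * (a : G → ℂ) := by
    funext g
    rw [Pi.mul_apply, Pi.mul_apply, bar, ← conjChar_apply, har]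
  refine h6 ?_
  rw [h5, haa, hsq, hbb]
  simp only [classInner_add_left, classInner_add_right, classInner_self_irr,
    classInner_irr_of_ne (ne_of_dg (show dg (oneChar G) ≠ dg θ by rw [dg_oneChar, hθd]; omega)),
    classInner_irr_of_ne ha.ne_one,
    classInner_irr_of_ne (ne_of_dg (show dg a ≠ dg θ by rw [ha.1, hθd]; omega)),
    classInner_irr_of_ne (ne_of_dg (show dg ψ ≠ dg (oneChar G) by rw [dg_oneChar, hψd]; omega)),
    classInner_irr_of_ne (ne_of_dg (show dg ψ ≠ dg θ by rw [hψd, hθd]; omega))]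
  ring

end Cfsg.Agent.Lib.FourMinus
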