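import Cfsg.Agent.Lib.FourMinus.Basic
import Cfsg.Agent.Lib.H80.LinearChar
import Cfsg.Agent.Lib.Clifford.Rep

/-!
# Values at `u`: degrees, constituents of products of three-dimensional characters

Hypothesis: every non-principal irreducible `χ` has `χ(1) - χ(u) = 4` or `χ(u) = 0`.
-/

set_option autoImplicit false
set_option linter.unusedSectionVars false

namespace Cfsg.Agent.Lib.FourMinus

open Cfsg.Agent.Lib.Induced.Basic Cfsg.Agent.Lib.Characters
open Cfsg.Agent.Lib.Characters.Basic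
open scoped ComplexConjugate

universe u

variable {G : Type u} [Group G] [Fintype G] [Fintype (Cfsg.IrrCharacter G)]

/-- The hypothesis of the theorem. -/
def Hyp (u : G) : Prop :=
  ∀ χ : Cfsg.IrrCharacter G, χ ≠ oneChar G →
    (χ : G → ℂ) 1 - (χ : G → ℂ) u = 4 ∨ (χ : G → ℂ) u = 0

/-- The degree, as an integer. -/
noncomputable def dg (χ : Cfsg.IrrCharacter G) : ℤ := ⌊((χ : G → ℂ) 1).re⌋

theorem apply_one (χ : Cfsg.IrrCharacter G) : (χ : G → ℂ) 1 = (dg χ : ℂ) := by
  obtain ⟨n, -, h⟩ := exists_degree_pos χ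
  simp [dg, h]

theorem dg_pos (χ : Cfsg.IrrCharacter G) : 0 < dg χ := by
  obtain ⟨n, hn, h⟩ := exists_degree_pos χ
  simp [dg, h, hn]

theorem dg_oneChar : dg (oneChar G) = 1 := by simp [dg, oneChar_apply]

open scoped Classical in
/-- The value at `u`, as an integer. -/
noncomputable def vl (u : G) (χ : Cfsg.IrrCharacter G) : ℤ :=
  if χ = oneChar G then 1 else if (χ : G → ℂ) u = 0 then 0 else dg χ - 4

variable {u : G} (hyp : Hyp u)
include hyp

theorem apply_u (χ : Cfsg.IrrCharacter G) : (χ : G → ℂ) u = (vl u χ : ℂ) := by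
  unfold vl
  split_ifs with h1 h2
  · simp [h1, oneChar_apply]
  · simp [h2]
  · have := (hyp χ h1).resolve_right h2
    rw [apply_one] at this
    push_cast
    linear_combination -this

omit hyp in
theorem vl_cases {χ : Cfsg.IrrCharacter G} (h : χ ≠ oneChar G) :
    vl u χ = 0 ∨ vl u χ = dg χ - 4 := by
  unfold vl
  rw [if_neg h]
  split_ifs <;> simp

omit hyp in
theorem vl_oneChar : vl u (oneChar G) = 1 := by simp [vl]

/-- A linear character is trivial. -/
theorem two_le_dg {χ : Cfsg.IrrCharacter G} (h : χ ≠ oneChar G) : 2 ≤ dg χ := by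
  by_contra hlt
  have h1 : dg χ = 1 := by have := dg_pos χ; omega
  have hd : (χ : G → ℂ) 1 = 1 := by rw [apply_one, h1]; simp
  have hne := H80.LinearChar.ne_zero_of_deg_one χ hd u
  have hv := (hyp χ h).resolve_right hne
  have hb := norm_apply_le (isCharacter_irr χ) u
  rw [hd] at hv
  rw [hd, show (χ : G → ℂ) u = -3 by linear_combination -hv] at hb
  norm_num at hb

theorem commutator_eq_top : commutator G = ⊤ := by
  by_contra hne
  obtain ⟨g, -, hg⟩ := SetLike.exists_of_lt (lt_of_le_of_ne le_top hne)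
  obtain ⟨χ, h1, h2⟩ := H80.LinearChar.exists_deg_one_apply_ne hg
  have hχ : χ ≠ oneChar G := fun e => h2 (by rw [e]; rfl)
  have := two_le_dg hyp hχ
  rw [apply_one] at h1
  have : dg χ = 1 := by exact_mod_cast h1
  omega

/-- Degree and value of a character in terms of the multiplicities. -/
theorem deg_val {φ : G → ℂ} (hφ : Cfsg.IsCharacter G φ) :
    φ 1 = ((∑ χ, (mult φ χ : ℤ) * dg χ : ℤ) : ℂ) ∧
      φ u = ((∑ χ, (mult φ χ : ℤ) * vl u χ : ℤ) : ℂ) := by
  constructor <;> rw [apply_eq_sum hφ, Int.cast_sum] <;>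
    refine Finset.sum_congr rfl fun χ _ => ?_
  · rw [apply_one]; push_cast; ring
  · rw [apply_u hyp]; push_cast; ring

/-- Degree `D ≤ 6` without trivial constituent: if the value at `u` is positive, the character is
irreducible with that value equal to `D - 4`. -/
theorem eq_irr_of_pos {φ : G → ℂ} (hφ : Cfsg.IsCharacter G φ)
    (h1 : mult φ (oneChar G) = 0) {D V : ℤ} (hD : φ 1 = (D : ℂ)) (hV : φ u = (V : ℂ))
    (hD6 : D ≤ 6) (hV0 : 0 < V) :
    ∃ χ : Cfsg.IrrCharacter G, φ = (χ : G → ℂ) ∧ χ ≠ oneChar G ∧ dg χ = D ∧ vl u χ = V ∧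
      5 ≤ D ∧ V = D - 4 := by
  classical
  obtain ⟨e1, e2⟩ := deg_val hyp hφ
  rw [hD, Int.cast_inj] at e1
  rw [hV, Int.cast_inj] at e2
  obtain ⟨χ, -, hχ⟩ : ∃ χ ∈ Finset.univ, 0 < (mult φ χ : ℤ) * vl u χ := by
    by_contra hne
    push Not at hne
    have := Finset.sum_nonpos fun χ hχ => hne χ hχ
    omega
  have hm : 0 < (mult φ χ : ℤ) := by
    rcases Nat.eq_zero_or_pos (mult φ χ) with h0 | h0
    · simp [h0] at hχ
    · exact_mod_cast h0
  have hv : 0 < vl u χ := pos_of_mul_pos_right hχ hm.le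
  have hne : χ ≠ oneChar G := fun e => by rw [e, h1] at hm; simp at hm
  have hd5 : 5 ≤ dg χ := by rcases vl_cases (u := u) hne with h | h <;> omega
  have hnn : ∀ ψ, 0 ≤ (mult φ ψ : ℤ) * dg ψ := fun ψ =>
    mul_nonneg (Int.natCast_nonneg _) (dg_pos ψ).le
  have hsplit := Finset.add_sum_erase Finset.univ (fun ψ => (mult φ ψ : ℤ) * dg ψ)
    (Finset.mem_univ χ)
  have hr0 : 0 ≤ ∑ ψ ∈ Finset.univ.erase χ, (mult φ ψ : ℤ) * dg ψ :=
    Finset.sum_nonneg fun ψ _ => hnn ψ
  have hm1 : (mult φ χ : ℤ) = 1 := by nlinarith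
  have hz : ∀ ψ, ψ ≠ χ → mult φ ψ = 0 := by
    intro ψ hψ
    by_contra h0
    have hψ1 : ψ ≠ oneChar G := fun e => h0 (e ▸ h1)
    have h2 := two_le_dg hyp hψ1
    have h3 : (mult φ ψ : ℤ) * dg ψ ≤ ∑ ψ' ∈ Finset.univ.erase χ, (mult φ ψ' : ℤ) * dg ψ' :=
      Finset.single_le_sum (f := fun ψ' => (mult φ ψ' : ℤ) * dg ψ') (fun ψ' _ => hnn ψ')
        (Finset.mem_erase.2 ⟨hψ, Finset.mem_univ _⟩)
    have h4 : 1 ≤ (mult φ ψ : ℤ) := by exact_mod_cast Nat.pos_of_ne_zero h0
    nlinarith
  have hφe : φ = (χ : G → ℂ) := funext fun g => by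
    rw [apply_eq_sum hφ g, Finset.sum_eq_single χ (fun ψ _ hψ => by simp [hz ψ hψ])
      (fun h => absurd (Finset.mem_univ χ) h), show mult φ χ = 1 by exact_mod_cast hm1]
    simp
  have hdD : dg χ = D := by
    have := congrFun hφe 1
    rw [hD, apply_one] at this
    exact_mod_cast this.symm
  have hvV : vl u χ = V := by
    have := congrFun hφe u
    rw [hV, apply_u hyp] at this
    exact_mod_cast this.symm
  refine ⟨χ, hφe, hne, hdD, hvV, by omega, ?_⟩
  rcases vl_cases (u := u) hne with h | h <;> omega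

/-- A character of degree at most four takes value at most its trivial multiplicity. -/
theorem val_le_mult_one {φ : G → ℂ} (hφ : Cfsg.IsCharacter G φ) {D V : ℤ} (hD : φ 1 = (D : ℂ))
    (hV : φ u = (V : ℂ)) (hD4 : D ≤ 4) : V ≤ (mult φ (oneChar G) : ℤ) := by
  classical
  obtain ⟨e1, e2⟩ := deg_val hyp hφ
  rw [hD, Int.cast_inj] at e1
  rw [hV, Int.cast_inj] at e2
  rw [e2, ← Finset.add_sum_erase _ _ (Finset.mem_univ (oneChar G)), vl_oneChar, mul_one]
  have : ∀ ψ ∈ Finset.univ.erase (oneChar G), (mult φ ψ : ℤ) * vl u ψ ≤ 0 := by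
    intro ψ hψ
    rcases Nat.eq_zero_or_pos (mult φ ψ) with h0 | h0
    · simp [h0]
    · have hd : dg ψ ≤ 4 := by
        have h3 : (mult φ ψ : ℤ) * dg ψ ≤ D := e1 ▸ Finset.single_le_sum
          (f := fun ψ' => (mult φ ψ' : ℤ) * dg ψ')
          (fun ψ' _ => mul_nonneg (Int.natCast_nonneg _) (dg_pos ψ').le) (Finset.mem_univ ψ)
        have h4 : 1 ≤ (mult φ ψ : ℤ) := by exact_mod_cast h0
        nlinarith [dg_pos ψ]
      refine mul_nonpos_of_nonneg_of_nonpos (Int.natCast_nonneg _) ?_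
      rcases vl_cases (u := u) (Finset.ne_of_mem_erase hψ) with h | h <;> omega
  linarith [Finset.sum_nonpos this]

/-- Irreducible characters of degree two vanish at `u`. -/
theorem vl_two {χ : Cfsg.IrrCharacter G} (hd : dg χ = 2) : vl u χ = 0 := by
  have hne : χ ≠ oneChar G := fun e => by rw [e, dg_oneChar] at hd; omega
  refine (vl_cases hne).resolve_right fun hv => ?_
  have hp : Cfsg.IsCharacter G ((χ : G → ℂ) * fun g => conj ((χ : G → ℂ) g)) :=
    isCharacter_mul (isCharacter_irr χ) (isCharacter_conj (isCharacter_irr χ))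
  obtain ⟨m, r, hr, hm, hr0, he⟩ := Cfsg.Agent.Lib.Clifford.Basic.exists_eq_nsmul_add hp (oneChar G)
  have hm1 : m = 1 := by
    have : Cfsg.classInner ((χ : G → ℂ) * fun g => conj ((χ : G → ℂ) g)) (oneChar G : G → ℂ) =
        Cfsg.classInner (χ : G → ℂ) χ := by
      simp [Cfsg.classInner, oneChar_apply]
    rw [this, classInner_self_irr] at hm
    exact_mod_cast hm.symm
  have hr1 : mult r (oneChar G) = 0 := by
    have := mult_spec hr (oneChar G)
    rw [hr0] at this
    exact_mod_cast this.symm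
  have e1 := congrFun he 1
  have eu := congrFun he u
  simp only [hm1, one_nsmul, Pi.mul_apply, Pi.add_apply, oneChar_apply, apply_one, hd, apply_u hyp,
    hv, map_intCast, vl_oneChar] at e1 eu
  have h3 : r 1 = ((3 : ℤ) : ℂ) := by push_cast at e1 ⊢; linear_combination -e1
  have h4 : r u = ((3 : ℤ) : ℂ) := by push_cast at eu ⊢; linear_combination -eu
  have := val_le_mult_one hyp hr h3 h4 (by omega)
  omega

/-- A character of norm two, degree nine and value one, without trivial constituent. -/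
theorem nine_decomp {φ : G → ℂ} (hφ : Cfsg.IsCharacter G φ) (hn : Cfsg.classInner φ φ = 2)
    (h1 : mult φ (oneChar G) = 0) (hD : φ 1 = 9) (hV : φ u = 1) :
    (∃ c : Cfsg.IrrCharacter G, mult φ c ≠ 0 ∧ c ≠ oneChar G ∧ (dg c = 5 ∨ dg c = 6) ∧
      vl u c = dg c - 4) ∧ ∀ χ, mult φ χ ≠ 0 → dg χ ≤ 6 := by
  obtain ⟨a, b, -, he, ha, hb, hz⟩ := exists_two hφ hn
  have hd : dg a + dg b = 9 := by
    have := congrFun he 1
    rw [hD, Pi.add_apply, apply_one, apply_one] at this
    exact_mod_cast this.symm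
  have hv : vl u a + vl u b = 1 := by
    have := congrFun he u
    rw [hV, Pi.add_apply, apply_u hyp, apply_u hyp] at this
    exact_mod_cast this.symm
  have ha1 : a ≠ oneChar G := fun e => by rw [← e, ha] at h1; omega
  have hb1 : b ≠ oneChar G := fun e => by rw [← e, hb] at h1; omega
  have h2a := two_le_dg hyp ha1
  have h2b := two_le_dg hyp hb1
  have h3a : dg a = 2 → vl u a = 0 := vl_two hyp
  have h3b : dg b = 2 → vl u b = 0 := vl_two hyp
  refine ⟨?_, fun χ hχ => ?_⟩
  · rcases vl_cases (u := u) ha1 with ea | ea <;> rcases vl_cases (u := u) hb1 with eb | eb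
    · omega
    · exact ⟨b, by omega, hb1, by omega, eb⟩
    · exact ⟨a, by omega, ha1, by omega, ea⟩
    · rcases le_or_gt 5 (dg a) with h5 | h5
      · exact ⟨a, by omega, ha1, by omega, ea⟩
      · exact ⟨b, by omega, hb1, by omega, eb⟩
  · rcases eq_or_ne χ a with rfl | hxa
    · rcases vl_cases (u := u) ha1 with ea | ea <;> rcases vl_cases (u := u) hb1 with eb | eb <;>
        omega
    · rcases eq_or_ne χ b with rfl | hxb
      · rcases vl_cases (u := u) ha1 with ea | ea <;> rcases vl_cases (u := u) hb1 with eb | eb <;>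
          omega
      · exact absurd (hz χ hxa hxb) hχ

omit hyp

/-- Exclusion of irreducible characters of degree nine with value one. -/
theorem not_nine {χ : Cfsg.IrrCharacter G} (hd : dg χ = 9) : vl u χ ≠ 1 := by
  unfold vl
  split_ifs with h1 h2
  · rw [h1, dg_oneChar] at hd; omega
  · omega
  · omega

end Cfsg.Agent.Lib.FourMinus
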